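import Groth.Agent.Lib.EtSec.Global

/-!
# Abelian sheaves and their underlying sheaves of sets

Inverse image commutes with the forgetful functor, so sections of inverse images of abelian
sheaves are relative sections of the underlying sheaves of sets.
-/

universe u

open CategoryTheory CategoryTheory.Limits AlgebraicGeometry Opposite
open GrothLib.EtSite

set_option backward.isDefEq.respectTransparency.types false

noncomputable section

namespace GrothLib.EtSec

variable {X S : Scheme.{u}}

/-- The underlying sheaf of sets. -/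
abbrev forgetSh (F : EtCoh.Ab S) : EtDesc.Sh S :=
  (sheafCompose S.smallEtaleTopology (forget AddCommGrpCat.{u + 1})).obj F

section stalk

variable {Ω : Type u} [Field Ω] [IsSepClosed Ω] (η : Spec (CommRingCat.of Ω) ⟶ S) (F : EtCoh.Ab S)

/-- The stalk of the underlying sheaf of sets maps to the stalk. -/
def stalkForget : (stalkSh η).obj (forgetSh F) ⟶ (forget AddCommGrpCat.{u + 1}).obj ((EtCoh.stalk η).obj F) :=
  ((Scheme.pointSmallEtale η).presheafFiberCompIso (forget AddCommGrpCat.{u + 1})).hom.app F.obj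

theorem stalkForget_germ {U : S.Etale} (t : (Scheme.pointSmallEtale η).fiber.obj U) (s : EtCoh.sect F U) :
    stalkForget η F ((Scheme.pointSmallEtale η).toPresheafFiber U t (forgetSh F).obj s) = germ η F t s :=
  ConcreteCategory.congr_hom
    ((Scheme.pointSmallEtale η).toPresheafFiber_presheafFiberCompIso_hom_app (forget AddCommGrpCat.{u + 1}) U t F.obj) s

theorem stalkForget_bijective : Function.Bijective (stalkForget η F) :=
  ConcreteCategory.bijective_of_isIso
    (((Scheme.pointSmallEtale η).presheafFiberCompIso (forget AddCommGrpCat.{u + 1})).hom.app F.obj)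

theorem stalkForget_gSh {W : S.Etale} (l : Spec (CommRingCat.of Ω) ⟶ W.left) (hl : l ≫ W.hom = η)
    (t : EtCoh.sect F W) : stalkForget η F (gSh (forgetSh F) l hl t) = germ η F (fib η l hl) t :=
  stalkForget_germ η F _ t

end stalk

variable (f : X ⟶ S) (F : EtCoh.Ab S)

/-- Inverse image of the underlying sheaf of sets maps to the underlying sheaf of the inverse image. -/
def cmp : (EtDesc.pullSh f).obj (forgetSh F) ⟶ forgetSh ((EtCoh.pull f).obj F) :=
  ((EtDesc.adjSh f).homEquiv (forgetSh F) (forgetSh ((EtCoh.pull f).obj F))).symm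
    ((sheafCompose S.smallEtaleTopology (forget AddCommGrpCat.{u + 1})).map ((EtCoh.pullPushAdj f).unit.app F))

theorem cmp_unit {W : S.Etale} (t : EtCoh.sect F W) :
    (cmp f F).hom.app (op ((EtCoh.bc f).obj W)) (((EtDesc.adjSh f).unit.app (forgetSh F)).hom.app (op W) t) =
      ((EtCoh.pullPushAdj f).unit.app F).hom.app (op W) t :=
  congrArg (fun k : forgetSh F ⟶ (EtDesc.pushSh f).obj (forgetSh ((EtCoh.pull f).obj F)) => k.hom.app (op W) t)
    (((EtDesc.adjSh f).homEquiv_unit _ _ (cmp f F)).symm.trans (((EtDesc.adjSh f).homEquiv _ _).apply_symm_apply _))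

theorem stalk_cmp {Ω : Type u} [Field Ω] [IsSepClosed Ω] (ξ : Spec (CommRingCat.of Ω) ⟶ X)
    (x : (stalkSh (ξ ≫ f)).obj (forgetSh F)) :
    stalkForget ξ ((EtCoh.pull f).obj F) ((stalkSh ξ).map (cmp f F) ((pullStalkShIso ξ f).inv.app (forgetSh F) x)) =
      (pullStalkIso ξ f).inv.app F (stalkForget (ξ ≫ f) F x) := by
  obtain ⟨W, t, s, rfl⟩ := (Scheme.pointSmallEtale (ξ ≫ f)).toPresheafFiber_jointly_surjective
    (P := (forgetSh F).obj) x
  rw [← germ_unitSh]
  refine (congrArg (stalkForget ξ _)
    ((Scheme.pointSmallEtale ξ).toPresheafFiber_naturality_apply (cmp f F).hom _ _ _)).trans ?_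
  refine (congrArg (fun y => stalkForget ξ ((EtCoh.pull f).obj F)
    ((Scheme.pointSmallEtale ξ).toPresheafFiber ((EtCoh.bc f).obj W) ((fiberBcIso ξ f).inv.app W t)
      (forgetSh ((EtCoh.pull f).obj F)).obj y)) (cmp_unit f F s)).trans ?_
  refine (stalkForget_germ ξ _ _ _).trans ?_
  exact (germ_unit ξ f F t s).trans (congrArg _ (stalkForget_germ (ξ ≫ f) F t s).symm)

theorem stalk_cmp_bijective {Ω : Type u} [Field Ω] [IsSepClosed Ω] (ξ : Spec (CommRingCat.of Ω) ⟶ X) :
    Function.Bijective ((stalkSh ξ).map (cmp f F)) := by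
  have h1 : Function.Bijective (fun x => stalkForget ξ ((EtCoh.pull f).obj F)
      ((stalkSh ξ).map (cmp f F) ((pullStalkShIso ξ f).inv.app (forgetSh F) x))) := by
    rw [show (fun x => stalkForget ξ ((EtCoh.pull f).obj F) ((stalkSh ξ).map (cmp f F)
      ((pullStalkShIso ξ f).inv.app (forgetSh F) x))) = fun x => (pullStalkIso ξ f).inv.app F
        (stalkForget (ξ ≫ f) F x) from funext (stalk_cmp f F ξ)]
    exact (ConcreteCategory.bijective_of_isIso ((pullStalkIso ξ f).inv.app F)).comp (stalkForget_bijective _ F)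
  have h2 : Function.Bijective (fun x => (stalkSh ξ).map (cmp f F) ((pullStalkShIso ξ f).inv.app (forgetSh F) x)) :=
    ⟨fun a b e => h1.1 (congrArg (stalkForget ξ _) e), fun y => by
      obtain ⟨x, hx⟩ := h1.2 (stalkForget ξ _ y)
      exact ⟨x, (stalkForget_bijective ξ _).1 hx⟩⟩
  exact (Function.Bijective.of_comp_iff _
    (ConcreteCategory.bijective_of_isIso ((pullStalkShIso ξ f).inv.app (forgetSh F)))).1 h2

instance isIso_cmp : IsIso (cmp f F) :=
  isIso_of_stalksSh _ fun x => ⟨_, inferInstance, inferInstance, gpt x, gpt_default x, stalk_cmp_bijective f F _⟩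

theorem cmp_app_bijective (U : X.Etale) : Function.Bijective ((cmp f F).hom.app (op U)) := by
  haveI : IsIso (cmp f F).hom :=
    inferInstanceAs (IsIso ((sheafToPresheaf X.smallEtaleTopology (Type (u + 1))).map (cmp f F)))
  exact ConcreteCategory.bijective_of_isIso ((cmp f F).hom.app (op U))

/-- A section of the inverse image of an abelian sheaf, as a relative section. -/
def toSecsAb {U : X.Etale} (σ : EtCoh.sect ((EtCoh.pull f).obj F) U) : Secs (U.hom ≫ f) (forgetSh F) :=
  toSecs f (forgetSh F) ((inv (cmp f F)).hom.app (op U) σ)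

theorem toSecsAb_bijective (U : X.Etale) : Function.Bijective (toSecsAb f F (U := U)) := by
  haveI : IsIso (inv (cmp f F)).hom :=
    inferInstanceAs (IsIso ((sheafToPresheaf X.smallEtaleTopology (Type (u + 1))).map (inv (cmp f F))))
  exact (toSecs_bijective f (forgetSh F) U).comp
    (ConcreteCategory.bijective_of_isIso ((inv (cmp f F)).hom.app (op U)))

theorem inv_cmp_app {U : X.Etale} (σ : EtDesc.sect ((EtDesc.pullSh f).obj (forgetSh F)) U) :
    (inv (cmp f F)).hom.app (op U) ((cmp f F).hom.app (op U) σ) = σ := by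
  have h : (cmp f F).hom ≫ (inv (cmp f F)).hom = 𝟙 _ :=
    congrArg (fun k : (EtDesc.pullSh f).obj (forgetSh F) ⟶ (EtDesc.pullSh f).obj (forgetSh F) => k.hom)
      (IsIso.hom_inv_id (cmp f F))
  have h' := congrArg (fun k : ((EtDesc.pullSh f).obj (forgetSh F)).obj ⟶ ((EtDesc.pullSh f).obj (forgetSh F)).obj => k.app (op U)) h
  exact ConcreteCategory.congr_hom h' σ

theorem toSecsAb_cmp {U : X.Etale} (σ : EtDesc.sect ((EtDesc.pullSh f).obj (forgetSh F)) U) :
    toSecsAb f F ((cmp f F).hom.app (op U) σ) = toSecs f (forgetSh F) σ := by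
  delta toSecsAb
  exact congrArg (fun y => toSecs f (forgetSh F) (U := U) y) (inv_cmp_app f F σ)

theorem toSecsAb_unit {W : S.Etale} (t : EtCoh.sect F W) :
    toSecsAb f F (((EtCoh.pullPushAdj f).unit.app F).hom.app (op W) t) =
      Secs.ofSect (F := forgetSh F) (pullback.fst W.hom f) (bc_cond f W) t := by
  rw [← cmp_unit, toSecsAb_cmp]
  exact toSecs_unit f (forgetSh F) t

theorem toSecsAb_map {U U' : X.Etale} (r : U' ⟶ U) (σ : EtCoh.sect ((EtCoh.pull f).obj F) U) :
    toSecsAb f F (((EtCoh.pull f).obj F).obj.map r.op σ) =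
      (toSecsAb f F σ).res r.left ((Category.assoc _ _ _).symm.trans (congrArg (· ≫ f) (hom_left r))) := by
  obtain ⟨σ₀, h₀⟩ := (cmp_app_bijective f F U).2 σ
  subst h₀
  have e : ((EtCoh.pull f).obj F).obj.map r.op ((cmp f F).hom.app (op U) σ₀) =
      (cmp f F).hom.app (op U') (((EtDesc.pullSh f).obj (forgetSh F)).obj.map r.op σ₀) :=
    (NatTrans.naturality_apply (cmp f F).hom r.op σ₀).symm
  rw [e, toSecsAb_cmp, toSecsAb_cmp]
  exact toSecs_map f (forgetSh F) r σ₀

end GrothLib.EtSec
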