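import Groth.Agent.Lib.EtSec.Basic
import Groth.Agent.Lib.EtSite.PushStalk

/-!
# Sections of sheaves and of inverse images as relative sections

Sections of a sheaf over an etale scheme, and sections of an inverse image over an etale scheme,
are the same as the relative sections `Secs`.
-/

universe u

open CategoryTheory CategoryTheory.Limits AlgebraicGeometry Opposite
open GrothLib.EtSite

set_option backward.isDefEq.respectTransparency.types false

noncomputable section

namespace GrothLib.EtSec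

variable {X S : Scheme.{u}}

/-- Sections with equal germs at all geometric points are equal. -/
theorem sect_ext {F : EtDesc.Sh S} {U : S.Etale} {s₁ s₂ : EtDesc.sect F U}
    (h : ∀ (Ω : Type u) [Field Ω] [IsSepClosed Ω] (l : Spec (CommRingCat.of Ω) ⟶ U.left)
      (η : Spec (CommRingCat.of Ω) ⟶ S) (hl : l ≫ U.hom = η), gSh F l hl s₁ = gSh F l hl s₂) : s₁ = s₂ := by
  let R : Sieve U :=
    { arrows := fun V g => F.obj.map g.op s₁ = F.obj.map g.op s₂
      downward_closed := by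
        intro V W g hg k
        rw [op_comp, Functor.map_comp, ConcreteCategory.comp_apply, hg, ConcreteCategory.comp_apply] }
  have hR : R ∈ S.smallEtaleTopology U := by
    rw [mem_topology_iff]
    intro u
    obtain ⟨Ω, _, _, l, rfl⟩ := Secs.exists_point u
    let t := fib (l ≫ U.hom) (U := U) l rfl
    obtain ⟨V, g, v, hv, hg⟩ := ((Scheme.pointSmallEtale (l ≫ U.hom)).toPresheafFiber_eq_iff' (P := F.obj)
      U t s₁ s₂).1 (h Ω l (l ≫ U.hom) rfl)
    exact ⟨V, g, _, hg, base_fiber_map (l ≫ U.hom) g v t hv⟩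
  exact (((isSheaf_iff_isSheaf_of_type _ _).1 F.property) R hR).isSeparatedFor.ext fun V g hg => hg

/-- A section over an etale scheme, as a relative section. -/
def secOf (F : EtDesc.Sh S) {U : S.Etale} (t : EtDesc.sect F U) : Secs U.hom F :=
  Secs.ofSect (𝟙 U.left) (Category.id_comp U.hom) t

theorem secOf_val (F : EtDesc.Sh S) {U : S.Etale} (t : EtDesc.sect F U) (Ω : Type u) [Field Ω] [IsSepClosed Ω]
    (p : Spec (CommRingCat.of Ω) ⟶ U.left) (η : Spec (CommRingCat.of Ω) ⟶ S) (h : p ≫ U.hom = η) :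
    (secOf F t).val Ω p η h = gSh F p h t :=
  gSh_congr (Category.comp_id p) _ _ t

theorem secOf_map (F : EtDesc.Sh S) {U U' : S.Etale} (r : U' ⟶ U) (t : EtDesc.sect F U) :
    secOf F (F.obj.map r.op t) = (secOf F t).res r.left (hom_left r) :=
  Secs.ext' fun Ω _ _ p η h => (secOf_val F _ Ω p η h).trans
    ((gSh_map r p h ((Category.assoc _ _ _).trans ((congrArg (p ≫ ·) (hom_left r)).trans h)) t).trans
      (secOf_val F t Ω (p ≫ r.left) η _).symm)

theorem ofSect_eq (F : EtDesc.Sh S) {U : S.Etale} {Z : Scheme.{u}} {a : Z ⟶ S} (m : Z ⟶ U.left)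
    (hm : m ≫ U.hom = a) (t : EtDesc.sect F U) : Secs.ofSect m hm t = (secOf F t).res m hm :=
  Secs.ext' fun Ω _ _ p η h =>
    (secOf_val F t Ω (p ≫ m) η ((Category.assoc p m U.hom).trans ((congrArg (p ≫ ·) hm).trans h))).symm

theorem secOf_injective (F : EtDesc.Sh S) (U : S.Etale) : Function.Injective (secOf F (U := U)) :=
  fun t t' h => sect_ext fun Ω _ _ l η hl => by
    rw [← secOf_val F t Ω l η hl, ← secOf_val F t' Ω l η hl, h]

/-- Gluing sections given locally. -/
theorem exists_sect {F : EtDesc.Sh S} {U : S.Etale}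
    (P : ∀ ⦃V : S.Etale⦄, (V ⟶ U) → EtDesc.sect F V → Prop)
    (hmap : ∀ ⦃V V' : S.Etale⦄ (g : V ⟶ U) (k : V' ⟶ V) (s : EtDesc.sect F V), P g s → P (k ≫ g) (F.obj.map k.op s))
    (huniq : ∀ ⦃V : S.Etale⦄ (g : V ⟶ U) (s s' : EtDesc.sect F V), P g s → P g s' → s = s')
    (hloc : ∀ u : U.left, ∃ (V : S.Etale) (g : V ⟶ U) (v : V.left) (s : EtDesc.sect F V), g.left.base v = u ∧ P g s) :
    ∃ t : EtDesc.sect F U, ∀ u : U.left, ∃ (V : S.Etale) (g : V ⟶ U) (v : V.left),
      g.left.base v = u ∧ P g (F.obj.map g.op t) := by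
  let R : Sieve U :=
    { arrows := fun V g => ∃ s, P g s
      downward_closed := by
        rintro V W g ⟨s, hs⟩ k
        exact ⟨_, hmap g k s hs⟩ }
  have hR : R ∈ S.smallEtaleTopology U := by
    rw [mem_topology_iff]
    intro u
    obtain ⟨V, g, v, s, hv, hs⟩ := hloc u
    exact ⟨V, g, v, ⟨s, hs⟩, hv⟩
  let x : Presieve.FamilyOfElements F.obj R.arrows := fun V g hg => hg.choose
  have hx : x.Compatible := fun V₁ V₂ W g₁ g₂ f₁ f₂ h₁ h₂ e =>
    huniq (g₁ ≫ f₁) _ _ (hmap f₁ g₁ _ h₁.choose_spec) (by rw [e]; exact hmap f₂ g₂ _ h₂.choose_spec)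
  obtain ⟨t, ht, -⟩ := ((isSheaf_iff_isSheaf_of_type _ _).1 F.property) R hR x hx
  refine ⟨t, fun u => ?_⟩
  obtain ⟨V, g, v, hg, hv⟩ := (mem_topology_iff R).1 hR u
  exact ⟨V, g, v, hv, by rw [ht g hg]; exact hg.choose_spec⟩

theorem secOf_bijective (F : EtDesc.Sh S) (U : S.Etale) : Function.Bijective (secOf F (U := U)) := by
  refine ⟨secOf_injective F U, fun σ => ?_⟩
  obtain ⟨t, ht⟩ := exists_sect (F := F) (U := U) (fun V g s => secOf F s = σ.res g.left (hom_left g))
    (fun V V' g k s hs => by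
      rw [secOf_map, hs, Secs.res_comp]
      exact Secs.res_congr rfl _ _ σ)
    (fun V g s s' hs hs' => secOf_injective F V (hs.trans hs'.symm))
    (fun u => by
      obtain ⟨V, v, hv, z', W, m, hm, t, hz, ht⟩ := σ.loc u
      let uh : U.left ⟶ S := U.hom
      haveI : Etale uh := U.prop
      let V' : S.Etale := Scheme.Etale.mk (v ≫ uh)
      let r : V' ⟶ W := MorphismProperty.Over.homMk m hm
      let g : V' ⟶ U := MorphismProperty.Over.homMk v rfl
      refine ⟨V', g, z', F.obj.map r.op t, hz, Secs.ext' fun Ω _ _ p η h => ?_⟩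
      refine (secOf_val F _ Ω p η h).trans ((gSh_map r p h ((Category.assoc _ _ _).trans
        ((congrArg (p ≫ ·) (hom_left r)).trans h)) t).trans ?_)
      exact (ht Ω p η ((Category.assoc _ _ _).trans h)).symm)
  refine ⟨t, Secs.eq_of_eqLocus _ _ fun u => ?_⟩
  obtain ⟨V, g, v, hv, hg⟩ := ht u
  rw [← hv, ← Secs.mem_eqLocus_res g.left (hom_left g), ← secOf_map, hg, Secs.eqLocus_eq_univ rfl]
  exact Set.mem_univ v

section pull

variable (f : X ⟶ S) (F : EtDesc.Sh S)

/-- The value of a section of an inverse image at a geometric point. -/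
def pullVal {U : X.Etale} (σ : EtDesc.sect ((EtDesc.pullSh f).obj F) U) :
    PtFun (U.hom ≫ f) F := fun Ω _ _ p η h =>
  ((Category.assoc p U.hom f).trans h) ▸ (pullStalkShIso (p ≫ U.hom) f).hom.app F
    ((Scheme.pointSmallEtale (p ≫ U.hom)).toPresheafFiber U (fib (p ≫ U.hom) p rfl)
      ((EtDesc.pullSh f).obj F).obj σ)

theorem pullVal_eq {U : X.Etale} (σ : EtDesc.sect ((EtDesc.pullSh f).obj F) U) {Ω : Type u} [Field Ω]
    [IsSepClosed Ω] (p : Spec (CommRingCat.of Ω) ⟶ U.left) {ξ : Spec (CommRingCat.of Ω) ⟶ X}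
    (hp : p ≫ U.hom = ξ) (h : p ≫ U.hom ≫ f = ξ ≫ f) :
    pullVal f F σ Ω p (ξ ≫ f) h =
      (pullStalkShIso ξ f).hom.app F (gSh ((EtDesc.pullSh f).obj F) p hp σ) := by
  subst hp
  rfl

theorem eq_of_pullVal {U : X.Etale} {σ σ' : EtDesc.sect ((EtDesc.pullSh f).obj F) U}
    (h : ∀ (Ω : Type u) [Field Ω] [IsSepClosed Ω] (p : Spec (CommRingCat.of Ω) ⟶ U.left)
      (η : Spec (CommRingCat.of Ω) ⟶ S) (hp : p ≫ U.hom ≫ f = η),
      pullVal f F σ Ω p η hp = pullVal f F σ' Ω p η hp) : σ = σ' :=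
  sect_ext fun Ω _ _ l η hl => by
    subst hl
    refine (ConcreteCategory.bijective_of_isIso ((pullStalkShIso (l ≫ U.hom) f).hom.app F)).injective ?_
    exact (pullVal_eq f F σ l rfl (Category.assoc _ _ _).symm).symm.trans
      ((h Ω l _ _).trans (pullVal_eq f F σ' l rfl (Category.assoc _ _ _).symm))

theorem pullVal_map {U U' : X.Etale} (r : U' ⟶ U) (σ : EtDesc.sect ((EtDesc.pullSh f).obj F) U)
    (Ω : Type u) [Field Ω] [IsSepClosed Ω] (p : Spec (CommRingCat.of Ω) ⟶ U'.left)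
    (η : Spec (CommRingCat.of Ω) ⟶ S) (h : p ≫ U'.hom ≫ f = η) (h' : (p ≫ r.left) ≫ U.hom ≫ f = η) :
    pullVal f F (((EtDesc.pullSh f).obj F).obj.map r.op σ) Ω p η h = pullVal f F σ Ω (p ≫ r.left) η h' := by
  have e : (p ≫ r.left) ≫ U.hom = p ≫ U'.hom := (Category.assoc _ _ _).trans (congrArg (p ≫ ·) (hom_left r))
  obtain rfl := (Category.assoc p U'.hom f).trans h
  rw [pullVal_eq f F _ p rfl, pullVal_eq f F σ (p ≫ r.left) e]
  exact congrArg _ (gSh_map r p rfl e σ)

theorem pullVal_unit {W : S.Etale} (t : EtDesc.sect F W) (Ω : Type u) [Field Ω] [IsSepClosed Ω]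
    (p : Spec (CommRingCat.of Ω) ⟶ ((EtCoh.bc f).obj W).left)
    (η : Spec (CommRingCat.of Ω) ⟶ S) (h : p ≫ ((EtCoh.bc f).obj W).hom ≫ f = η)
    (h' : (p ≫ pullback.fst W.hom f) ≫ W.hom = η) :
    pullVal f F (((EtDesc.adjSh f).unit.app F).hom.app (op W) t) Ω p η h =
      gSh F (p ≫ pullback.fst W.hom f) h' t := by
  obtain rfl := (Category.assoc p ((EtCoh.bc f).obj W).hom f).trans h
  let ξ := p ≫ ((EtCoh.bc f).obj W).hom
  rw [pullVal_eq f F _ p rfl]
  have hl : (fiberBcIso ξ f).inv.app W (fib (ξ ≫ f) (p ≫ pullback.fst W.hom f) h') = fib ξ p rfl :=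
    Over.OverMorphism.ext (pullback.hom_ext (pullback.lift_fst _ _ _) (pullback.lift_snd _ _ _))
  have := germ_unitSh f ξ F (fib (ξ ≫ f) (p ≫ pullback.fst W.hom f) h') t
  rw [hl] at this
  refine (congrArg ((pullStalkShIso ξ f).hom.app F) this).trans ?_
  exact ConcreteCategory.congr_hom (Iso.inv_hom_id_app (pullStalkShIso ξ f) F) _

theorem bc_cond (W : S.Etale) :
    pullback.fst W.hom f ≫ W.hom = ((EtCoh.bc f).obj W).hom ≫ f := pullback.condition

/-- A section of an inverse image is locally the inverse image of a section. -/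
theorem exists_local_unit {U : X.Etale} (σ : EtDesc.sect ((EtDesc.pullSh f).obj F) U) (u : U.left) :
    ∃ (V : X.Etale) (g : V ⟶ U) (v : V.left) (W : S.Etale) (r : V ⟶ (EtCoh.bc f).obj W) (t : EtDesc.sect F W),
      g.left.base v = u ∧ ((EtDesc.pullSh f).obj F).obj.map g.op σ =
        ((EtDesc.pullSh f).obj F).obj.map r.op (((EtDesc.adjSh f).unit.app F).hom.app (op W) t) := by
  obtain ⟨Ω, _, _, p, rfl⟩ := Secs.exists_point u
  let ξ := p ≫ U.hom
  obtain ⟨W, l, hl, t, ht⟩ := exists_gSh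
    ((pullStalkShIso ξ f).hom.app F (gSh ((EtDesc.pullSh f).obj F) p rfl σ))
  let q : Spec (CommRingCat.of Ω) ⟶ ((EtCoh.bc f).obj W).left := pullback.lift l ξ hl
  have hq : q ≫ ((EtCoh.bc f).obj W).hom = ξ := pullback.lift_snd _ _ _
  have hqf : q ≫ ((EtCoh.bc f).obj W).hom ≫ f = ξ ≫ f := (Category.assoc _ _ _).symm.trans (congrArg (· ≫ f) hq)
  have e := (pullVal_eq f F (((EtDesc.adjSh f).unit.app F).hom.app (op W) t) q hq hqf).symm.trans
    ((pullVal_unit f F t Ω q (ξ ≫ f) hqf ((congrArg (· ≫ W.hom) (pullback.lift_fst _ _ _)).trans hl)).trans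
      ((gSh_congr (pullback.lift_fst _ _ _) _ hl t).trans ht))
  obtain ⟨V, r₁, r₂, v, -, h₁, -, hr⟩ := gSh_eq
    ((ConcreteCategory.bijective_of_isIso ((pullStalkShIso ξ f).hom.app F)).injective e).symm
  exact ⟨V, r₁, v.base default, W, r₂, t,
    congrArg (fun k : Spec (CommRingCat.of Ω) ⟶ U.left => k.base default) h₁, hr⟩

theorem isLocSec_pullVal {U : X.Etale} (σ : EtDesc.sect ((EtDesc.pullSh f).obj F) U) :
    IsLocSec (U.hom ≫ f) F (pullVal f F σ) := fun u => by
  obtain ⟨V, g, v, W, r, t, hv, hr⟩ := exists_local_unit f F σ u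
  let gl : V.left ⟶ U.left := g.left
  let uh : U.left ⟶ X := U.hom
  haveI : Etale uh := U.prop
  haveI : Etale gl := by
    haveI : Etale (gl ≫ uh) := by
      rw [show gl ≫ uh = V.hom from hom_left g]; exact V.prop
    exact Etale.of_comp gl uh
  let rl : V.left ⟶ ((EtCoh.bc f).obj W).left := r.left
  have hm : (rl ≫ pullback.fst W.hom f) ≫ W.hom = gl ≫ uh ≫ f := by
    refine (Category.assoc _ _ _).trans ((congrArg (rl ≫ ·) (bc_cond f W)).trans ?_)
    refine (Category.assoc _ _ _).symm.trans (Eq.trans ?_ (Category.assoc gl uh f))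
    exact congrArg (· ≫ f) ((hom_left r).trans (hom_left g).symm)
  refine ⟨V.left, gl, inferInstance, v, W, rl ≫ pullback.fst W.hom f, hm, t, hv, fun Ω _ _ q η h => ?_⟩
  have h1 : q ≫ V.hom ≫ f = η := by
    rw [← h, show V.hom = gl ≫ uh from (hom_left g).symm]; simp only [Category.assoc]; rfl
  refine (pullVal_map f F g σ Ω q η h1 h).symm.trans ?_
  rw [hr]
  have h2 : (q ≫ rl) ≫ ((EtCoh.bc f).obj W).hom ≫ f = η := by
    rw [← h1, Category.assoc]
    exact congrArg (q ≫ ·) ((Category.assoc _ _ _).symm.trans (congrArg (· ≫ f) (hom_left r)))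
  have h3 : ((q ≫ rl) ≫ pullback.fst W.hom f) ≫ W.hom = η := by
    refine (Category.assoc _ _ _).trans ((congrArg ((q ≫ rl) ≫ ·) (bc_cond f W)).trans ?_)
    exact h2
  exact (pullVal_map f F r _ Ω q η h1 h2).trans
    ((pullVal_unit f F t Ω (q ≫ rl) η h2 h3).trans (gSh_congr (Category.assoc _ _ _) _ _ t))

/-- A section of an inverse image, as a relative section. -/
def toSecs {U : X.Etale} (σ : EtDesc.sect ((EtDesc.pullSh f).obj F) U) : Secs (U.hom ≫ f) F :=
  ⟨pullVal f F σ, isLocSec_pullVal f F σ⟩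

theorem toSecs_injective (U : X.Etale) : Function.Injective (toSecs f F (U := U)) := fun σ σ' h =>
  eq_of_pullVal f F fun Ω _ _ p η hp => by
    have := congrArg (fun s : Secs (U.hom ≫ f) F => s.val Ω p η hp) h
    exact this

theorem toSecs_map {U U' : X.Etale} (r : U' ⟶ U) (σ : EtDesc.sect ((EtDesc.pullSh f).obj F) U) :
    toSecs f F (((EtDesc.pullSh f).obj F).obj.map r.op σ) =
      (toSecs f F σ).res r.left ((Category.assoc _ _ _).symm.trans (congrArg (· ≫ f) (hom_left r))) :=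
  Secs.ext' fun Ω _ _ p η h => pullVal_map f F r σ Ω p η h
    ((Category.assoc _ _ _).trans ((congrArg (p ≫ ·) ((Category.assoc _ _ _).symm.trans (congrArg (· ≫ f) (hom_left r)))).trans h))

theorem toSecs_unit {W : S.Etale} (t : EtDesc.sect F W) :
    toSecs f F (((EtDesc.adjSh f).unit.app F).hom.app (op W) t) =
      Secs.ofSect (pullback.fst W.hom f) (bc_cond f W) t :=
  Secs.ext' fun Ω _ _ p η h => pullVal_unit f F t Ω p η h _

theorem toSecs_bijective (U : X.Etale) : Function.Bijective (toSecs f F (U := U)) := by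
  refine ⟨toSecs_injective f F U, fun σ => ?_⟩
  let G := (EtDesc.pullSh f).obj F
  have hcond : ∀ {V : X.Etale} (g : V ⟶ U), g.left ≫ U.hom ≫ f = V.hom ≫ f := fun g =>
    (Category.assoc _ _ _).symm.trans (congrArg (· ≫ f) (hom_left g))
  obtain ⟨t, ht⟩ := exists_sect (F := G) (U := U) (fun V g s => toSecs f F s = σ.res g.left (hcond g))
    (fun V V' g k s hs => by
      rw [toSecs_map, hs, Secs.res_comp]
      exact Secs.res_congr rfl _ _ σ)
    (fun V g s s' hs hs' => toSecs_injective f F V (hs.trans hs'.symm))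
    (fun u => by
      obtain ⟨V, v, hv, z', W, m, hm, t, hz, ht⟩ := σ.loc u
      let uh : U.left ⟶ X := U.hom
      haveI : Etale uh := U.prop
      let V' : X.Etale := Scheme.Etale.mk (v ≫ uh)
      let g : V' ⟶ U := MorphismProperty.Over.homMk v rfl
      let r : V' ⟶ (EtCoh.bc f).obj W := MorphismProperty.Over.homMk
        (pullback.lift m (v ≫ uh) (hm.trans (Category.assoc _ _ _).symm)) (pullback.lift_snd _ _ _)
      refine ⟨V', g, z', G.obj.map r.op (((EtDesc.adjSh f).unit.app F).hom.app (op W) t), hz, ?_⟩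
      rw [toSecs_map, toSecs_unit]
      refine (Secs.res_ofSect _ _ _ _ t).trans (Secs.ext' fun Ω _ _ p η h => ?_)
      have h' : (p ≫ v) ≫ U.hom ≫ f = η :=
        (Category.assoc _ _ _).trans ((congrArg (p ≫ ·) (Category.assoc v uh f).symm).trans h)
      exact (gSh_congr (congrArg (p ≫ ·) (pullback.lift_fst _ _ _)) _ _ t).trans (ht Ω p η h').symm)
  refine ⟨t, Secs.eq_of_eqLocus _ _ fun u => ?_⟩
  obtain ⟨V, g, v, hv, hg⟩ := ht u
  rw [← hv, ← Secs.mem_eqLocus_res g.left (hcond g), ← toSecs_map, hg, Secs.eqLocus_eq_univ rfl]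
  exact Set.mem_univ v

end pull

end GrothLib.EtSec
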