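import Groth.Agent.Lib.Hensel.HullExtra
import Mathlib.RingTheory.Etale.Weakly
import Mathlib.RingTheory.Ideal.Pure
import Mathlib.RingTheory.Unramified.Finite

/-!
# The hull is weakly etale
-/

namespace GrothLib.EtSec

open CategoryTheory GrothLib.Hensel
open scoped TensorProduct

universe u

/-- An element of the kernel of multiplication is fixed by the complement of the diagonal idempotent. -/
theorem eq_sub_elem_mul {R S : Type u} [CommRing R] [CommRing S] [Algebra R S] [Algebra.FormallyUnramified R S]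
    [Algebra.EssFiniteType R S] (z : S ⊗[R] S) (hz : Algebra.TensorProduct.lmul' R z = 0) :
    z = (1 - Algebra.FormallyUnramified.elem R S) * z := by
  set e := Algebra.FormallyUnramified.elem R S with he
  have hmul : ∀ z : S ⊗[R] S, z * e = (Algebra.TensorProduct.lmul' R z ⊗ₜ 1) * e := fun z => by
    induction z with
    | zero => simp
    | tmul a b =>
      have h1 : a ⊗ₜ[R] b = (a ⊗ₜ[R] (1 : S)) * ((1 : S) ⊗ₜ[R] b) := by simp
      rw [h1, mul_assoc, he, Algebra.FormallyUnramified.one_tmul_mul_elem, ← mul_assoc]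
      simp
    | add z w hz hw => rw [add_mul, hz, hw, map_add, TensorProduct.add_tmul, add_mul]
  rw [sub_mul, one_mul, mul_comm e, hmul, hz]
  simp

variable (A C : Type u) [CommRing A] [CommRing C] [Algebra A C]

theorem exists_stage_tensor (x : Hull A C ⊗[A] Hull A C) :
    ∃ (N : Nbhd A C) (x₀ : N.Ring ⊗[A] N.Ring), Algebra.TensorProduct.map (Hull.ι N) (Hull.ι N) x₀ = x := by
  induction x with
  | zero => exact ⟨Classical.arbitrary _, 0, map_zero _⟩
  | tmul a b =>
    obtain ⟨N, c, hc⟩ := Hull.exists_ι_family (![a, b])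
    exact ⟨N, c 0 ⊗ₜ c 1, by simp [hc]⟩
  | add x y hx hy =>
    obtain ⟨N, x₀, rfl⟩ := hx
    obtain ⟨M, y₀, rfl⟩ := hy
    obtain ⟨K, f, g, -⟩ := IsFilteredOrEmpty.cocone_objs N M
    refine ⟨K, Algebra.TensorProduct.map f.map f.map x₀ + Algebra.TensorProduct.map g.map g.map y₀, ?_⟩
    have key : ∀ {P : Nbhd A C} (h : P ⟶ K) (z : P.Ring ⊗[A] P.Ring),
        Algebra.TensorProduct.map (Hull.ι K) (Hull.ι K) (Algebra.TensorProduct.map h.map h.map z) =
          Algebra.TensorProduct.map (Hull.ι P) (Hull.ι P) z := fun {P} h z => by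
      induction z with
      | zero => simp
      | tmul a b => simp [Hull.ι_map]
      | add z w hz hw => simp [map_add, hz, hw]
    rw [map_add, key, key]

/-- The kernel of the multiplication of the hull is pure. -/
theorem pure_ker_lmul :
    (RingHom.ker (Algebra.TensorProduct.lmul' A (S := Hull A C)).toRingHom).Pure := by
  refine Ideal.Pure.of_inf_eq_mul _ fun J _ => le_antisymm (fun x hx => ?_) Ideal.mul_le_inf
  obtain ⟨hxI, hxJ⟩ := hx
  obtain ⟨N, x₀, rfl⟩ := exists_stage_tensor A C x
  have hcomp : ∀ {P : Nbhd A C} (z : P.Ring ⊗[A] P.Ring),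
      Algebra.TensorProduct.lmul' A (Algebra.TensorProduct.map (Hull.ι P) (Hull.ι P) z) =
        Hull.ι P (Algebra.TensorProduct.lmul' A z) := fun {P} z => by
    induction z with
    | zero => simp
    | tmul a b => simp
    | add z w hz hw => simp [map_add, hz, hw]
  obtain ⟨M, f, hf⟩ := Hull.exists_map_eq_zero (a := Algebra.TensorProduct.lmul' A x₀)
    ((hcomp x₀).symm.trans hxI)
  let e := Algebra.FormallyUnramified.elem A M.Ring
  let y₀ := Algebra.TensorProduct.map f.map f.map x₀
  have hy₀ : Algebra.TensorProduct.lmul' A y₀ = 0 := by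
    have key : ∀ z : N.Ring ⊗[A] N.Ring, Algebra.TensorProduct.lmul' A (Algebra.TensorProduct.map f.map f.map z) =
        f.map (Algebra.TensorProduct.lmul' A z) := fun z => by
      induction z with
      | zero => simp
      | tmul a b => simp
      | add z w hz hw => simp [map_add, hz, hw]
    exact (key x₀).trans hf
  let φ := Algebra.TensorProduct.map (Hull.ι M) (Hull.ι M)
  have hx : Algebra.TensorProduct.map (Hull.ι N) (Hull.ι N) x₀ = φ y₀ := by
    show _ = Algebra.TensorProduct.map (Hull.ι M) (Hull.ι M) (Algebra.TensorProduct.map f.map f.map x₀)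
    have key : ∀ z : N.Ring ⊗[A] N.Ring, Algebra.TensorProduct.map (Hull.ι N) (Hull.ι N) z =
        Algebra.TensorProduct.map (Hull.ι M) (Hull.ι M) (Algebra.TensorProduct.map f.map f.map z) := fun z => by
      induction z with
      | zero => simp
      | tmul a b => simp [Hull.ι_map]
      | add z w hz hw => simp [map_add, hz, hw]
    exact key x₀
  have h1 : φ y₀ = φ (1 - e) * φ y₀ := by
    rw [← map_mul]
    exact congrArg φ (eq_sub_elem_mul y₀ hy₀)
  rw [hx] at hxJ ⊢
  rw [h1]
  refine Ideal.mul_mem_mul ?_ hxJ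
  show Algebra.TensorProduct.lmul' A (φ (1 - e)) = 0
  rw [hcomp, map_sub, map_one, Algebra.FormallyUnramified.lmul_elem, sub_self, map_zero]

/-- The hull is weakly etale. -/
theorem weaklyEtale_hull : Algebra.WeaklyEtale A (Hull A C) where
  flat_lmul' := by
    let l := (Algebra.TensorProduct.lmul' A (S := Hull A C)).toRingHom
    letI : Algebra (Hull A C ⊗[A] Hull A C) (Hull A C) := l.toAlgebra
    have hs : Function.Surjective (Algebra.ofId (Hull A C ⊗[A] Hull A C) (Hull A C)) := fun a =>
      ⟨a ⊗ₜ 1, by show Algebra.TensorProduct.lmul' A (a ⊗ₜ[A] (1 : Hull A C)) = a; simp⟩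
    have e := (Ideal.quotientKerAlgEquivOfSurjective hs).toLinearEquiv
    have h : (RingHom.ker (Algebra.ofId (Hull A C ⊗[A] Hull A C) (Hull A C))).Pure := pure_ker_lmul A C
    exact @Module.Flat.of_linearEquiv _ _ _ _ _ _ _ _ h e.symm

end GrothLib.EtSec
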