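import Groth.Agent.Lib.EtSec.SHull
import Groth.Agent.Lib.EtSec.HullWE
import Groth.Agent.Lib.WeakEtale.Basic
import Mathlib.AlgebraicGeometry.Sites.Etale
import Mathlib.AlgebraicGeometry.AffineTransitionLimit

/-!
# Strict localizations as limits of affine etale neighbourhoods
-/

universe u

open CategoryTheory CategoryTheory.Limits AlgebraicGeometry Opposite
open GrothLib.Hensel

set_option backward.isDefEq.respectTransparency.types false

noncomputable section

namespace GrothLib.EtSec

variable {X S : Scheme.{u}} {Ω : Type u} [Field Ω]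

/-- A local scheme over `X` which is the limit of affine etale neighbourhoods of a geometric
point, initial among all neighbourhoods. -/
structure ProNbhd (ξ : Spec (CommRingCat.of Ω) ⟶ X) : Type (u + 1) where
  /-- index category -/
  I : Type u
  [cat : SmallCategory I]
  [cofiltered : IsCofiltered I]
  /-- the stages -/
  D : I ⥤ Scheme.{u}
  affine : ∀ i, IsAffine (D.obj i)
  /-- the limit -/
  c : Cone D
  hc : IsLimit c
  affine_pt : IsAffine c.pt
  /-- the structure maps -/
  b : ∀ i, D.obj i ⟶ X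
  etale : ∀ i, Etale (b i)
  hb : ∀ {i j} (f : i ⟶ j), D.map f ≫ b j = b i
  /-- the structure map of the limit -/
  bc : c.pt ⟶ X
  hbc : ∀ i, c.π.app i ≫ b i = bc
  /-- the point -/
  pt : Spec (CommRingCat.of Ω) ⟶ c.pt
  hpt : pt ≫ bc = ξ
  eq_top : ∀ O : c.pt.Opens, pt.base default ∈ O → O = ⊤
  initial : ∀ (U : Scheme.{u}) (u : U ⟶ X) (_ : Etale u) (q : Spec (CommRingCat.of Ω) ⟶ U), q ≫ u = ξ →
    ∃ (i : I) (m : D.obj i ⟶ U), m ≫ u = b i ∧ pt ≫ c.π.app i ≫ m = q

attribute [instance] ProNbhd.cat ProNbhd.cofiltered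

namespace ProNbhd

variable {ξ : Spec (CommRingCat.of Ω) ⟶ X} (N : ProNbhd ξ)

/-- Morphisms to an etale scheme agreeing at the point are equal. -/
theorem ext {W T : Scheme.{u}} (w : W ⟶ T) [Etale w] (m m' : N.c.pt ⟶ W) (h : m ≫ w = m' ≫ w)
    (hp : N.pt ≫ m = N.pt ≫ m') : m = m' := by
  let k : N.c.pt ⟶ pullback w w := pullback.lift m m' h
  have hk : N.pt ≫ k = (N.pt ≫ m) ≫ pullback.diagonal w := by
    apply pullback.hom_ext
    · exact ((Category.assoc _ _ _).trans (congrArg (N.pt ≫ ·) (pullback.lift_fst m m' h))).trans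
        (((Category.assoc _ _ _).trans ((congrArg ((N.pt ≫ m) ≫ ·) (pullback.diagonal_fst w)).trans
          (Category.comp_id _))).symm)
    · exact ((Category.assoc _ _ _).trans (congrArg (N.pt ≫ ·) (pullback.lift_snd m m' h))).trans
        (hp.symm.trans ((Category.assoc _ _ _).trans ((congrArg ((N.pt ≫ m) ≫ ·) (pullback.diagonal_snd w)).trans
          (Category.comp_id _))).symm)
  have hO := N.eq_top (k ⁻¹ᵁ (pullback.diagonal w).opensRange) ⟨(N.pt ≫ m).base default,
    (congrArg (fun j : Spec (CommRingCat.of Ω) ⟶ pullback w w => j.base default) hk).symm⟩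
  have hr : Set.range k.base ⊆ Set.range (pullback.diagonal w).base := by
    rintro _ ⟨z, rfl⟩
    exact hO.ge (Set.mem_univ z)
  have e := IsOpenImmersion.lift_fac (pullback.diagonal w) k hr
  have e1 := congrArg (· ≫ pullback.fst w w) e
  have e2 := congrArg (· ≫ pullback.snd w w) e
  simp only [Category.assoc, pullback.diagonal_fst, pullback.diagonal_snd, Category.comp_id, k,
    pullback.lift_fst, pullback.lift_snd] at e1 e2
  exact e1.symm.trans e2

/-- A morphism compatible with the points lifts to the limits. -/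
theorem exists_hom {η : Spec (CommRingCat.of Ω) ⟶ S} (f : X ⟶ S) (hη : ξ ≫ f = η) (N' : ProNbhd η) :
    ∃ a : N.c.pt ⟶ N'.c.pt, a ≫ N'.bc = N.bc ≫ f ∧ N.pt ≫ a = N'.pt := by
  have loc : ∀ j, ∃ aj : N.c.pt ⟶ N'.D.obj j, aj ≫ N'.b j = N.bc ≫ f ∧ N.pt ≫ aj = N'.pt ≫ N'.c.π.app j := by
    intro j
    haveI := N'.etale j
    have hq : (N'.pt ≫ N'.c.π.app j) ≫ N'.b j = ξ ≫ f :=
      (Category.assoc _ _ _).trans ((congrArg (N'.pt ≫ ·) (N'.hbc j)).trans (N'.hpt.trans hη.symm))
    obtain ⟨i, m, hm, hp⟩ := N.initial (pullback (N'.b j) f) (pullback.snd _ _) inferInstance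
      (pullback.lift (N'.pt ≫ N'.c.π.app j) ξ hq) (pullback.lift_snd _ _ _)
    refine ⟨N.c.π.app i ≫ m ≫ pullback.fst (N'.b j) f, ?_, ?_⟩
    · rw [Category.assoc, Category.assoc, pullback.condition, ← Category.assoc m, hm, ← Category.assoc, N.hbc]
    · exact ((congrArg (N.pt ≫ ·) (Category.assoc _ _ _).symm).trans (Category.assoc _ _ _).symm).trans
        ((congrArg (· ≫ pullback.fst (N'.b j) f) hp).trans (pullback.lift_fst _ _ _))
  choose aj haj hajp using loc
  let s : Cone N'.D :=
    { pt := N.c.pt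
      π :=
        { app := aj
          naturality := fun j k φ => by
            haveI := N'.etale k
            refine (Category.id_comp _).trans (N.ext (N'.b k) _ _ ?_ ?_)
            · rw [Category.assoc, N'.hb, haj, haj]
            · rw [hajp, reassoc_of% hajp j, N'.c.w] } }
  obtain ⟨j₀⟩ := IsCofiltered.nonempty (C := N'.I)
  refine ⟨N'.hc.lift s, ?_, N'.hc.hom_ext fun j => ?_⟩
  · rw [← N'.hbc j₀, ← Category.assoc, N'.hc.fac s j₀]
    exact haj j₀
  · rw [Category.assoc, N'.hc.fac s j]
    exact hajp j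

end ProNbhd

/-- The geometric point given by an embedding of a residue field. -/
def ptOf (X : Scheme.{u}) (x : X) (Ω : Type u) [Field Ω] [Algebra (X.residueField x) Ω] :
    Spec (CommRingCat.of Ω) ⟶ X :=
  Spec.map (CommRingCat.ofHom (algebraMap (X.residueField x) Ω)) ≫ X.fromSpecResidueField x

theorem ptOf_default (x : X) (Ω : Type u) [Field Ω] [Algebra (X.residueField x) Ω] :
    (ptOf X x Ω).base default = x := by
  rw [ptOf]
  change (X.fromSpecResidueField x).base _ = x
  exact Scheme.fromSpecResidueField_apply _ _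

section aux

variable (A C : Type u) [CommRing A] [Field C] [Algebra A C] [Algebra A Ω] [Algebra C Ω] [IsScalarTower A C Ω]

/-- The neighbourhoods given by `Hull A C`. -/
theorem exists_proNbhd_hull (j : Spec (CommRingCat.of A) ⟶ X) [IsOpenImmersion j]
    (hsep : ∀ (A' : Type u) [CommRing A'] [Algebra A A'] [Algebra.Etale A A'] (φ : A' →ₐ[A] Ω) (a : A'),
      ∃ c : C, algebraMap C Ω c = φ a) :
    ∃ (N : ProNbhd (Spec.map (CommRingCat.ofHom (algebraMap A Ω)) ≫ j))
      (e : Spec (CommRingCat.of (Hull A C)) ≅ N.c.pt),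
      e.hom ≫ N.bc = Spec.map (CommRingCat.ofHom (algebraMap A (Hull A C))) ≫ j ∧
        (N.pt ≫ e.inv).base default = IsLocalRing.closedPoint (Hull A C) := by
  let ι : C →ₐ[A] Ω := IsScalarTower.toAlgHom A C Ω
  let pC : Hull A C →+* Ω := (algebraMap C Ω).comp (Hull.proj (A := A) (C := C)).toRingHom
  let DN : (Nbhd A C)ᵒᵖ ⥤ Scheme.{u} := (Nbhd.diagram A C).op ⋙ Scheme.Spec
  let ptN : Spec (CommRingCat.of Ω) ⟶ Spec (CommRingCat.of (Hull A C)) := Spec.map (CommRingCat.ofHom pC)
  have hclosed : ptN.base default = IsLocalRing.closedPoint (Hull A C) := by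
    generalize (default : ↥(Spec (CommRingCat.of Ω))) = z
    refine PrimeSpectrum.ext ?_
    refine (show (ptN.base z).asIdeal = Ideal.comap pC (PrimeSpectrum.asIdeal z) from rfl).trans ?_
    rw [show PrimeSpectrum.asIdeal z = ⊥ from Ideal.eq_bot_of_prime _]
    refine Eq.trans ?_ (SHull.maximalIdeal_eq (A := A) (C := C)).symm
    ext y
    exact map_eq_zero (algebraMap C Ω)
  let cN : Cone DN :=
    { pt := Spec (CommRingCat.of (Hull A C))
      π :=
        { app := fun i => Spec.map (CommRingCat.ofHom (Hull.ι i.unop).toRingHom)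
          naturality := fun i k f => (Category.id_comp _).trans
            (((congrArg Spec.map (CommRingCat.hom_ext (RingHom.ext fun x => (Hull.ι_map f.unop x).symm))).trans
              (Spec.map_comp _ _))) } }
  have hb' : ∀ {B B' : Type u} [CommRing B] [CommRing B'] [Algebra A B] [Algebra A B'] (f : B →ₐ[A] B'),
      Spec.map (CommRingCat.ofHom f.toRingHom) ≫ Spec.map (CommRingCat.ofHom (algebraMap A B)) ≫ j =
        Spec.map (CommRingCat.ofHom (algebraMap A B')) ≫ j := fun f => by
    rw [← Category.assoc, ← Spec.map_comp, ← CommRingCat.ofHom_comp]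
    exact congrArg (fun k => Spec.map (CommRingCat.ofHom k) ≫ j) f.comp_algebraMap
  let N : ProNbhd (Spec.map (CommRingCat.ofHom (algebraMap A Ω)) ≫ j) :=
  { I := (Nbhd A C)ᵒᵖ
    D := DN
    affine := fun i => inferInstanceAs (IsAffine (Spec _))
    c := cN
    hc := (isLimitOfPreserves Scheme.Spec (colimit.isColimit (Nbhd.diagram A C)).op).ofIsoLimit
      (Cone.ext (Iso.refl _) fun i => (Category.id_comp _).symm)
    affine_pt := inferInstanceAs (IsAffine (Spec _))
    b := fun i => Spec.map (CommRingCat.ofHom (algebraMap A i.unop.Ring)) ≫ j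
    etale := fun i => by
      haveI : Etale (Spec.map (CommRingCat.ofHom (algebraMap A i.unop.Ring))) := by
        rw [HasRingHomProperty.Spec_iff (P := @Etale)]
        exact RingHom.etale_algebraMap.2 inferInstance
      exact (inferInstance : Etale (Spec.map (CommRingCat.ofHom (algebraMap A i.unop.Ring)) ≫ j))
    hb := fun {i k} f => hb' f.unop.map
    bc := Spec.map (CommRingCat.ofHom (algebraMap A (Hull A C))) ≫ j
    hbc := fun i => hb' (Hull.ι i.unop)
    pt := ptN
    hpt := by
      show Spec.map _ ≫ Spec.map _ ≫ j = _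
      rw [← Category.assoc, ← Spec.map_comp, ← CommRingCat.ofHom_comp]
      refine congrArg (fun k : A →+* Ω => Spec.map (CommRingCat.ofHom k) ≫ j) (RingHom.ext fun a => ?_)
      show algebraMap C Ω (Hull.proj (algebraMap A (Hull A C) a)) = _
      rw [AlgHom.commutes, ← IsScalarTower.algebraMap_apply]
    eq_top := fun O hO => top_le_iff.1 fun (z : ↥(Spec (CommRingCat.of (Hull A C)))) _ =>
      (IsLocalRing.specializes_closedPoint z).mem_open O.2 (hclosed ▸ hO)
    initial := fun U u hu q hq => by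
      let qQ : Spec (CommRingCat.of Ω) ⟶ pullback u j :=
        pullback.lift q (Spec.map (CommRingCat.ofHom (algebraMap A Ω))) hq
      obtain ⟨_, ⟨W, hW, rfl⟩, hzW, -⟩ :=
        (pullback u j).isBasis_affineOpens.exists_subset_of_mem_open (Set.mem_univ (qQ.base default)) isOpen_univ
      obtain ⟨α, hα⟩ := Spec.map_surjective (hW.fromSpec ≫ pullback.snd u j)
      have hαet : α.hom.Etale := by
        rw [← HasRingHomProperty.Spec_iff (P := @Etale), hα]; infer_instance
      have hr : Set.range qQ.base ⊆ Set.range hW.fromSpec.base := by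
        rintro _ ⟨z, rfl⟩
        rw [hW.range_fromSpec, Subsingleton.elim z default]
        exact hzW
      obtain ⟨φ₀, hφ₀⟩ := Spec.map_surjective (IsOpenImmersion.lift hW.fromSpec qQ hr)
      letI : Algebra A Γ(pullback u j, W) := α.hom.toAlgebra
      haveI : Algebra.Etale A Γ(pullback u j, W) := hαet
      have hαφ : α ≫ φ₀ = CommRingCat.ofHom (algebraMap A Ω) := by
        apply Spec.map_injective
        rw [Spec.map_comp, hφ₀, hα, IsOpenImmersion.lift_fac_assoc, pullback.lift_snd]
      let φ : Γ(pullback u j, W) →ₐ[A] Ω :=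
        { φ₀.hom with commutes' := fun a => (ConcreteCategory.congr_hom hαφ a) }
      let φ' : Γ(pullback u j, W) →ₐ[A] C :=
        (AlgEquiv.ofInjective ι (algebraMap C Ω).injective).symm.toAlgHom.comp
          (φ.codRestrict ι.range fun a => hsep _ φ a)
      have hφ' : ∀ a, algebraMap C Ω (φ' a) = φ₀ a := fun a =>
        congrArg Subtype.val ((AlgEquiv.ofInjective ι (algebraMap C Ω).injective).apply_symm_apply
          (φ.codRestrict ι.range (fun a => hsep _ φ a) a))
      let eM := Nbhd.ofEtaleEquiv _ φ'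
      let m : Spec (CommRingCat.of (Nbhd.ofEtale _ φ').Ring) ⟶ U :=
        Spec.map (CommRingCat.ofHom eM.toAlgHom.toRingHom) ≫ hW.fromSpec ≫ pullback.fst u j
      refine ⟨op (Nbhd.ofEtale _ φ'), m, ?_, ?_⟩
      · show (Spec.map _ ≫ hW.fromSpec ≫ pullback.fst u j) ≫ u = _
        rw [Category.assoc, Category.assoc, pullback.condition, ← Category.assoc hW.fromSpec, ← hα]
        exact hb' eM.toAlgHom
      · show Spec.map _ ≫ Spec.map _ ≫ Spec.map _ ≫ hW.fromSpec ≫ pullback.fst u j = q
        rw [← Category.assoc (Spec.map _) (Spec.map _), ← Spec.map_comp, ← Category.assoc, ← Spec.map_comp]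
        have e : CommRingCat.ofHom eM.toAlgHom.toRingHom ≫
            (CommRingCat.ofHom (Hull.ι (Nbhd.ofEtale _ φ')).toRingHom ≫ CommRingCat.ofHom pC) = φ₀ :=
          CommRingCat.hom_ext (RingHom.ext fun a => ((congrArg (algebraMap C Ω)
            ((Hull.proj_ι (Nbhd.ofEtale _ φ') (eM a)).trans (AlgHom.congr_fun (Nbhd.ofEtale_pt _ φ') a))).trans (hφ' a)))
        refine (congrArg (fun k => Spec.map k ≫ hW.fromSpec ≫ pullback.fst u j) e).trans ?_
        rw [hφ₀, IsOpenImmersion.lift_fac_assoc, pullback.lift_fst] }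
  exact ⟨N, Iso.refl _, Category.id_comp _,
    (congrArg (fun k : Spec (CommRingCat.of Ω) ⟶ Spec (CommRingCat.of (Hull A C)) => k.base default)
      (Category.comp_id ptN)).trans hclosed⟩

end aux

/-- Every geometric point has a strict localization. -/
theorem exists_proNbhd (x : X) (Ω : Type u) [Field Ω] [IsSepClosed Ω] [Algebra (X.residueField x) Ω]
    (η : Spec (CommRingCat.of Ω) ⟶ X) (hη : η = ptOf X x Ω) :
    ∃ (N : ProNbhd η) (_ : WeaklyEtale N.bc) (H : Type u) (_ : CommRing H) (_ : IsLocalRing H)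
      (_ : Algebra (X.presheaf.stalk x) H) (_ : IsLocalHom (algebraMap (X.presheaf.stalk x) H))
      (_ : _root_.Hensel.IsStrictHenselization (X.presheaf.stalk x) H) (e : Spec (CommRingCat.of H) ≅ N.c.pt),
      e.hom ≫ N.bc = Spec.map (CommRingCat.ofHom (algebraMap (X.presheaf.stalk x) H)) ≫ X.fromSpecStalk x ∧
        (N.pt ≫ e.inv).base default = IsLocalRing.closedPoint H := by
  obtain ⟨_, ⟨V, hV, rfl⟩, hxV, -⟩ :=
    X.isBasis_affineOpens.exists_subset_of_mem_open (Set.mem_univ x) isOpen_univ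
  letI : Algebra Γ(X, V) (X.presheaf.stalk x) := (X.presheaf.germ V x hxV).hom.toAlgebra
  haveI hloc : IsLocalization.AtPrime (X.presheaf.stalk x) (hV.primeIdealOf ⟨x, hxV⟩).asIdeal :=
    hV.isLocalization_stalk ⟨x, hxV⟩
  haveI : IsLocalization.AtPrime (X.presheaf.stalk x)
      ((IsLocalRing.maximalIdeal (X.presheaf.stalk x)).comap (algebraMap Γ(X, V) (X.presheaf.stalk x))) := by
    convert hloc
    exact IsLocalization.AtPrime.comap_maximalIdeal (X.presheaf.stalk x) (hV.primeIdealOf ⟨x, hxV⟩).asIdeal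
  letI : Algebra (IsLocalRing.ResidueField (X.presheaf.stalk x)) Ω := ‹Algebra (X.residueField x) Ω›
  let C := separableClosure (IsLocalRing.ResidueField (X.presheaf.stalk x)) Ω
  haveI : IsSepClosed C := IsSepClosure.sep_closed (IsLocalRing.ResidueField (X.presheaf.stalk x))
  letI : Algebra Γ(X, V) Ω := ((algebraMap (IsLocalRing.ResidueField (X.presheaf.stalk x)) Ω).comp
    (algebraMap Γ(X, V) (IsLocalRing.ResidueField (X.presheaf.stalk x)))).toAlgebra
  letI : Algebra Γ(X, V) C := ((algebraMap (IsLocalRing.ResidueField (X.presheaf.stalk x)) C).comp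
    (algebraMap Γ(X, V) (IsLocalRing.ResidueField (X.presheaf.stalk x)))).toAlgebra
  haveI : IsScalarTower Γ(X, V) (IsLocalRing.ResidueField (X.presheaf.stalk x)) Ω :=
    IsScalarTower.of_algebraMap_eq fun _ => rfl
  haveI : IsScalarTower Γ(X, V) (IsLocalRing.ResidueField (X.presheaf.stalk x)) C :=
    IsScalarTower.of_algebraMap_eq fun _ => rfl
  haveI : IsScalarTower Γ(X, V) C Ω := IsScalarTower.of_algebraMap_eq fun _ => rfl
  letI : Algebra (X.presheaf.stalk x) (Hull Γ(X, V) C) :=
    (SHull.toHull (A := Γ(X, V)) (↥C) (X.presheaf.stalk x)).toAlgebra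
  haveI : IsLocalHom (algebraMap (X.presheaf.stalk x) (Hull Γ(X, V) C)) :=
    SHull.isLocalHom_toHull (A := Γ(X, V)) (C := ↥C) (R := X.presheaf.stalk x)
  have hSH : _root_.Hensel.IsStrictHenselization (X.presheaf.stalk x) (Hull Γ(X, V) C) :=
    SHull.isStrictHenselization (A := Γ(X, V)) (C := ↥C) (R := X.presheaf.stalk x) rfl
  obtain ⟨N, e, he, hp⟩ := exists_proNbhd_hull (Ω := Ω) Γ(X, V) C hV.fromSpec fun A' _ _ _ φ a =>
    ⟨⟨φ a, mem_separableClosure_iff.2
      (SHull.isSeparable_of_etale (IsLocalRing.ResidueField (X.presheaf.stalk x)) φ a)⟩, rfl⟩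
  have hξ : Spec.map (CommRingCat.ofHom (algebraMap Γ(X, V) Ω)) ≫ hV.fromSpec = ptOf X x Ω := by
    rw [ptOf, Scheme.fromSpecResidueField, ← hV.fromSpecStalk_eq_fromSpecStalk hxV, IsAffineOpen.fromSpecStalk]
    simp only [← Category.assoc, ← Spec.map_comp]
    rfl
  have hstalk : Spec.map (CommRingCat.ofHom (algebraMap Γ(X, V) (Hull Γ(X, V) C))) ≫ hV.fromSpec =
      Spec.map (CommRingCat.ofHom (algebraMap (X.presheaf.stalk x) (Hull Γ(X, V) C))) ≫ X.fromSpecStalk x := by
    rw [← hV.fromSpecStalk_eq_fromSpecStalk hxV, IsAffineOpen.fromSpecStalk]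
    refine Eq.trans ?_ (Category.assoc _ _ _)
    rw [← Spec.map_comp]
    refine congrArg (fun k => Spec.map k ≫ hV.fromSpec) (CommRingCat.hom_ext (RingHom.ext fun a => ?_))
    exact (SHull.toHull_algebraMap (A := Γ(X, V)) (C := ↥C) (R := X.presheaf.stalk x) a).symm
  subst hη
  refine hξ ▸ ?_
  haveI : WeaklyEtale (Spec.map (CommRingCat.ofHom (algebraMap Γ(X, V) (Hull Γ(X, V) C)))) :=
    (GrothLib.WeakEtale.algebra_iff_specMap).2 (weaklyEtale_hull _ _)
  have hwe : WeaklyEtale N.bc := by
    have h1 : N.bc = e.inv ≫ Spec.map (CommRingCat.ofHom (algebraMap Γ(X, V) (Hull Γ(X, V) C))) ≫ hV.fromSpec := by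
      rw [← he, Iso.inv_hom_id_assoc]
    rw [h1]
    infer_instance
  exact ⟨N, hwe, Hull Γ(X, V) C, inferInstance, inferInstance, inferInstance, inferInstance, hSH, e,
    he.trans hstalk, hp⟩

end GrothLib.EtSec
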