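import Groth.Agent.Lib.EtSec.Global

/-!
# Relative sections of an inverse image
-/

set_option autoImplicit false
universe u

open CategoryTheory CategoryTheory.Limits AlgebraicGeometry Opposite
open GrothLib.EtSite

set_option backward.isDefEq.respectTransparency.types false

noncomputable section

namespace GrothLib.EtSec

variable {X S Z : Scheme.{u}} (f : X ⟶ S) (F : EtDesc.Sh S) (a : Z ⟶ X)

/-- The values of a section of an inverse image, seen in the sheaf itself. -/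
def secsPullVal (σ : Secs a ((EtDesc.pullSh f).obj F)) : PtFun (a ≫ f) F := fun Ω _ _ p η h =>
  ((Category.assoc p a f).trans h) ▸ (pullStalkShIso (p ≫ a) f).hom.app F (σ.val Ω p (p ≫ a) rfl)

theorem secsPullVal_eq (σ : Secs a ((EtDesc.pullSh f).obj F)) {Ω : Type u} [Field Ω] [IsSepClosed Ω]
    (p : Spec (CommRingCat.of Ω) ⟶ Z) {ξ : Spec (CommRingCat.of Ω) ⟶ X} (hp : p ≫ a = ξ)
    (h : p ≫ a ≫ f = ξ ≫ f) :
    secsPullVal f F a σ Ω p (ξ ≫ f) h = (pullStalkShIso ξ f).hom.app F (σ.val Ω p ξ hp) := by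
  subst hp
  rfl

theorem isLocSec_secsPull (σ : Secs a ((EtDesc.pullSh f).obj F)) : IsLocSec (a ≫ f) F (secsPullVal f F a σ) := by
  intro z
  obtain ⟨V, v, hv, z', W, m, hm, t, hz, ht⟩ := σ.loc z
  obtain ⟨V₁, v₁, hv₁, z₁, W₁, m₁, hm₁, t₁, hz₁, ht₁⟩ := (toSecs f F t).loc (m.base z')
  obtain ⟨z₂, hz₂, -⟩ := Scheme.Pullback.exists_preimage_pullback (f := m) (g := v₁) z' z₁ hz₁.symm
  let b : pullback m v₁ ⟶ V := pullback.fst m v₁
  let c : pullback m v₁ ⟶ V₁ := pullback.snd m v₁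
  have hbc : b ≫ m = c ≫ v₁ := pullback.condition
  haveI : Etale b := MorphismProperty.pullback_fst m v₁ hv₁
  refine ⟨pullback m v₁, b ≫ v, inferInstance, z₂, W₁, c ≫ m₁, ?_, t₁, ?_, fun Ω _ _ q η h => ?_⟩
  · refine (Category.assoc _ _ _).trans ((congrArg (c ≫ ·) hm₁).trans ?_)
    refine (Category.assoc c v₁ _).symm.trans ((congrArg (· ≫ W.hom ≫ f) hbc.symm).trans ?_)
    refine (Category.assoc b m _).trans (Eq.trans ?_ (Category.assoc b v _).symm)
    exact congrArg (b ≫ ·) ((Category.assoc m W.hom f).symm.trans ((congrArg (· ≫ f) hm).trans (Category.assoc v a f)))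
  · show v.base (b.base z₂) = z
    rw [show b.base z₂ = z' from hz₂]; exact hz
  · let ξ : Spec (CommRingCat.of Ω) ⟶ X := ((q ≫ b) ≫ v) ≫ a
    have e : q ≫ b ≫ v = (q ≫ b) ≫ v := (Category.assoc q b v).symm
    have hη : ξ ≫ f = η := by
      rw [← h]
      simp only [ξ, Category.assoc]
    subst hη
    have hl : ((q ≫ b) ≫ m) ≫ W.hom = ξ :=
      (Category.assoc _ _ _).trans ((congrArg ((q ≫ b) ≫ ·) hm).trans (Category.assoc _ _ _).symm)
    refine (secsPullVal_eq f F a σ (q ≫ b ≫ v) (ξ := ξ) ((congrArg (· ≫ a) e)) _).trans ?_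
    refine (congrArg ((pullStalkShIso ξ f).hom.app F)
      ((σ.val_congr e _ rfl).trans (ht Ω (q ≫ b) ξ rfl))).trans ?_
    have h' : ((q ≫ b) ≫ m) ≫ W.hom ≫ f = ξ ≫ f := (Category.assoc _ _ _).symm.trans (congrArg (· ≫ f) hl)
    refine (pullVal_eq f F t ((q ≫ b) ≫ m) hl h').symm.trans ?_
    have e' : (q ≫ b) ≫ m = (q ≫ c) ≫ v₁ := by rw [Category.assoc, hbc, ← Category.assoc]
    have h'' : ((q ≫ c) ≫ v₁) ≫ W.hom ≫ f = ξ ≫ f := (congrArg (· ≫ W.hom ≫ f) e'.symm).trans h'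
    exact ((toSecs f F t).val_congr e' h' h'').trans ((ht₁ Ω (q ≫ c) _ h'').trans
      (gSh_congr (Category.assoc q c m₁) _ _ t₁))

/-- A section of an inverse image gives a relative section of the sheaf. -/
def secsPull (σ : Secs a ((EtDesc.pullSh f).obj F)) : Secs (a ≫ f) F :=
  ⟨secsPullVal f F a σ, isLocSec_secsPull f F a σ⟩

theorem secsPull_bijective : Function.Bijective (secsPull f F a) := by
  constructor
  · intro σ τ h
    refine Secs.ext' fun Ω _ _ p ξ hp => ?_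
    have hh : p ≫ a ≫ f = ξ ≫ f := (Category.assoc p a f).symm.trans (congrArg (· ≫ f) hp)
    refine (ConcreteCategory.bijective_of_isIso ((pullStalkShIso ξ f).hom.app F)).injective ?_
    exact (secsPullVal_eq f F a σ p hp hh).symm.trans
      ((congrArg (fun s : Secs (a ≫ f) F => s.val Ω p (ξ ≫ f) hh) h).trans (secsPullVal_eq f F a τ p hp hh))
  · intro τ
    let val : PtFun a ((EtDesc.pullSh f).obj F) := fun Ω _ _ p ξ hp =>
      (pullStalkShIso ξ f).inv.app F
        (τ.val Ω p (ξ ≫ f) ((Category.assoc p a f).symm.trans (congrArg (· ≫ f) hp)))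
    have hval : ∀ (Ω : Type u) [Field Ω] [IsSepClosed Ω] (p : Spec (CommRingCat.of Ω) ⟶ Z)
        (ξ : Spec (CommRingCat.of Ω) ⟶ X) (hp : p ≫ a = ξ) (h : p ≫ a ≫ f = ξ ≫ f),
        (pullStalkShIso ξ f).hom.app F (val Ω p ξ hp) = τ.val Ω p (ξ ≫ f) h := fun Ω _ _ p ξ hp h =>
      ConcreteCategory.congr_hom (Iso.inv_hom_id_app (pullStalkShIso ξ f) F) _
    refine ⟨⟨val, fun z => ?_⟩, Secs.ext' fun Ω _ _ p η h => ?_⟩
    · obtain ⟨V, v, hv, z', W, m, hm, t, hz, ht⟩ := τ.loc z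
      let m' : V ⟶ ((EtCoh.bc f).obj W).left := pullback.lift m (v ≫ a) (hm.trans (Category.assoc v a f).symm)
      have hm' : m' ≫ ((EtCoh.bc f).obj W).hom = v ≫ a := pullback.lift_snd _ _ _
      refine ⟨V, v, hv, z', (EtCoh.bc f).obj W, m', hm', ((EtDesc.adjSh f).unit.app F).hom.app (op W) t, hz,
        fun Ω _ _ q ξ h => ?_⟩
      refine (ConcreteCategory.bijective_of_isIso ((pullStalkShIso ξ f).hom.app F)).injective ?_
      have hh : (q ≫ v) ≫ a ≫ f = ξ ≫ f := (Category.assoc _ a f).symm.trans (congrArg (· ≫ f) h)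
      have hq : (q ≫ m') ≫ ((EtCoh.bc f).obj W).hom = ξ :=
        (Category.assoc _ _ _).trans ((congrArg (q ≫ ·) hm').trans ((Category.assoc _ _ _).symm.trans h))
      have hq' : (q ≫ m') ≫ ((EtCoh.bc f).obj W).hom ≫ f = ξ ≫ f :=
        (Category.assoc _ _ _).symm.trans (congrArg (· ≫ f) hq)
      refine (hval Ω (q ≫ v) ξ h hh).trans ((ht Ω q (ξ ≫ f) hh).trans ?_)
      refine Eq.trans ?_ (pullVal_eq f F _ (q ≫ m') hq hq')
      have hf : (q ≫ m') ≫ pullback.fst W.hom f = q ≫ m :=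
        (Category.assoc _ _ _).trans (congrArg (q ≫ ·) (pullback.lift_fst _ _ _))
      refine Eq.trans ?_ (pullVal_unit f F t Ω (q ≫ m') (ξ ≫ f) hq' ?_).symm
      · exact gSh_congr hf.symm _ _ t
      · exact (congrArg (· ≫ W.hom) hf).trans ((Category.assoc _ _ _).trans ((congrArg (q ≫ ·) hm).trans
          ((Category.assoc _ _ _).symm.trans hh)))
    · obtain rfl := (Category.assoc p a f).trans h
      exact (secsPullVal_eq f F a _ p rfl h).trans (hval Ω p _ rfl h)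

theorem secsPull_res {Z' : Scheme.{u}} (b : Z' ⟶ Z) {a' : Z' ⟶ X} (e : b ≫ a = a')
    (σ : Secs a ((EtDesc.pullSh f).obj F)) :
    secsPull f F a' (σ.res b e) = (secsPull f F a σ).res b ((Category.assoc b a f).symm.trans (congrArg (· ≫ f) e)) :=
  Secs.ext' fun Ω _ _ p η h => by
    subst e
    obtain rfl := (Category.assoc p (b ≫ a) f).trans h
    have hh : (p ≫ b) ≫ a ≫ f = (p ≫ b ≫ a) ≫ f := by simp only [Category.assoc]
    refine (secsPullVal_eq f F (b ≫ a) _ p rfl h).trans ?_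
    exact (secsPullVal_eq f F a σ (p ≫ b) (Category.assoc p b a) hh).symm

end GrothLib.EtSec
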