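import Groth.Agent.Lib.EtSite.SetPoints
import Groth.Agent.Lib.EtSite.PushUI

/-!
# Sections of a sheaf relative to a morphism, described by their values at geometric points

For `a : Z ⟶ S` and a sheaf of sets `F` on the small etale site of `S`, an element of `Secs a F`
is a family of elements of the stalks of `F` at the images of the geometric points of `Z` which is,
etale locally on `Z`, given by a section of `F`.  These are the sections over `Z` of the inverse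
image of `F`, and they are visibly functorial in `Z`.
-/

universe u

open CategoryTheory CategoryTheory.Limits AlgebraicGeometry Opposite
open GrothLib.EtSite

set_option backward.isDefEq.respectTransparency.types false

noncomputable section

namespace GrothLib.EtSec

variable {X S : Scheme.{u}}

/-- The germ at a geometric point of an etale scheme of a section. -/
def gSh {Ω : Type u} [Field Ω] [IsSepClosed Ω] {η : Spec (CommRingCat.of Ω) ⟶ S} (F : EtDesc.Sh S)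
    {W : S.Etale} (l : Spec (CommRingCat.of Ω) ⟶ W.left) (hl : l ≫ W.hom = η) (t : EtDesc.sect F W) :
    (stalkSh η).obj F :=
  (Scheme.pointSmallEtale η).toPresheafFiber W (fib η l hl) F.obj t

section germs

variable {Ω : Type u} [Field Ω] [IsSepClosed Ω] {η : Spec (CommRingCat.of Ω) ⟶ S} {F : EtDesc.Sh S}

theorem gSh_congr {W : S.Etale} {l l' : Spec (CommRingCat.of Ω) ⟶ W.left} (e : l = l')
    (hl : l ≫ W.hom = η) (hl' : l' ≫ W.hom = η) (t : EtDesc.sect F W) :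
    gSh F l hl t = gSh F l' hl' t := by
  subst e; rfl

theorem hom_left {W W' : S.Etale} (r : W' ⟶ W) : r.left ≫ W.hom = W'.hom := MorphismProperty.Over.w r

theorem gSh_map {W W' : S.Etale} (r : W' ⟶ W) (l : Spec (CommRingCat.of Ω) ⟶ W'.left) (hl : l ≫ W'.hom = η)
    (hl' : (l ≫ r.left) ≫ W.hom = η) (t : EtDesc.sect F W) :
    gSh F l hl (F.obj.map r.op t) = gSh F (l ≫ r.left) hl' t :=
  (Scheme.pointSmallEtale η).toPresheafFiber_w_apply r (fib η l hl) F.obj t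

theorem exists_gSh (y : (stalkSh η).obj F) :
    ∃ (W : S.Etale) (l : Spec (CommRingCat.of Ω) ⟶ W.left) (hl : l ≫ W.hom = η) (t : EtDesc.sect F W),
      gSh F l hl t = y := by
  obtain ⟨W, w, t, rfl⟩ := (Scheme.pointSmallEtale η).toPresheafFiber_jointly_surjective (P := F.obj) y
  exact ⟨W, w.left, Over.w w, t, rfl⟩

theorem gSh_eq {W₁ W₂ : S.Etale} {l₁ : Spec (CommRingCat.of Ω) ⟶ W₁.left} {h₁ : l₁ ≫ W₁.hom = η}
    {l₂ : Spec (CommRingCat.of Ω) ⟶ W₂.left} {h₂ : l₂ ≫ W₂.hom = η}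
    {t₁ : EtDesc.sect F W₁} {t₂ : EtDesc.sect F W₂} (h : gSh F l₁ h₁ t₁ = gSh F l₂ h₂ t₂) :
    ∃ (W : S.Etale) (r₁ : W ⟶ W₁) (r₂ : W ⟶ W₂) (l : Spec (CommRingCat.of Ω) ⟶ W.left),
      l ≫ W.hom = η ∧ l ≫ r₁.left = l₁ ∧ l ≫ r₂.left = l₂ ∧ F.obj.map r₁.op t₁ = F.obj.map r₂.op t₂ := by
  let Φ := Scheme.pointSmallEtale η
  obtain ⟨⟨W₀, w₀⟩, ⟨r₁, e₁⟩, ⟨r₂, e₂⟩, -⟩ :=
    IsCofilteredOrEmpty.cone_objs (C := Φ.fiber.Elements) ⟨W₁, fib η l₁ h₁⟩ ⟨W₂, fib η l₂ h₂⟩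
  dsimp only at r₁ r₂ e₁ e₂
  simp only [gSh] at h
  rw [← e₁, ← e₂, ← Φ.toPresheafFiber_w_apply, ← Φ.toPresheafFiber_w_apply] at h
  obtain ⟨W, r, w, hw, he⟩ := (Φ.toPresheafFiber_eq_iff' (P := F.obj) W₀ w₀ _ _).1 h
  have hw' : w.left ≫ r.left = w₀.left := congrArg CommaMorphism.left hw
  refine ⟨W, r ≫ r₁, r ≫ r₂, w.left, Over.w w, ?_, ?_, ?_⟩
  · refine ((Category.assoc _ _ _).symm.trans (congrArg (· ≫ r₁.left) hw')).trans ?_
    exact congrArg CommaMorphism.left e₁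
  · refine ((Category.assoc _ _ _).symm.trans (congrArg (· ≫ r₂.left) hw')).trans ?_
    exact congrArg CommaMorphism.left e₂
  · rw [op_comp, op_comp, Functor.map_comp, Functor.map_comp, ConcreteCategory.comp_apply,
      ConcreteCategory.comp_apply, he]

end germs

/-- A geometric point of an etale scheme over a geometric point. -/
theorem exists_lift {Z V : Scheme.{u}} (v : V ⟶ Z) [Etale v] {Ω : Type u} [Field Ω] [IsSepClosed Ω]
    (p : Spec (CommRingCat.of Ω) ⟶ Z) (z : V) (h : v.base z = p.base default) :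
    ∃ q : Spec (CommRingCat.of Ω) ⟶ V, q ≫ v = p ∧ q.base default = z := by
  obtain ⟨t, ht⟩ := exists_fib p (U := Scheme.Etale.mk v) z h
  exact ⟨t.left, Over.w t, ht⟩

/-- Pointwise data on the geometric points of `Z`. -/
abbrev PtFun {Z : Scheme.{u}} (a : Z ⟶ S) (F : EtDesc.Sh S) : Type (u + 1) :=
  ∀ (Ω : Type u) [Field Ω] [IsSepClosed Ω] (p : Spec (CommRingCat.of Ω) ⟶ Z)
    (η : Spec (CommRingCat.of Ω) ⟶ S), p ≫ a = η → (stalkSh η).obj F

/-- Pointwise data given etale locally by sections. -/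
def IsLocSec {Z : Scheme.{u}} (a : Z ⟶ S) (F : EtDesc.Sh S) (σ : PtFun a F) : Prop :=
  ∀ z : Z, ∃ (V : Scheme.{u}) (v : V ⟶ Z) (_ : Etale v) (z' : V) (W : S.Etale) (m : V ⟶ W.left)
    (hm : m ≫ W.hom = v ≫ a) (t : EtDesc.sect F W), v.base z' = z ∧
      ∀ (Ω : Type u) [Field Ω] [IsSepClosed Ω] (q : Spec (CommRingCat.of Ω) ⟶ V)
        (η : Spec (CommRingCat.of Ω) ⟶ S) (h : (q ≫ v) ≫ a = η),
        σ Ω (q ≫ v) η h = gSh F (q ≫ m)
          ((Category.assoc q m W.hom).trans ((congrArg (q ≫ ·) hm).trans ((Category.assoc q v a).symm.trans h))) t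

/-- The sections over `Z` of the inverse image of `F`. -/
structure Secs {Z : Scheme.{u}} (a : Z ⟶ S) (F : EtDesc.Sh S) : Type (u + 1) where
  /-- the value at a geometric point -/
  val : PtFun a F
  loc : IsLocSec a F val

namespace Secs

variable {Z : Scheme.{u}} {a : Z ⟶ S} {F : EtDesc.Sh S}

theorem ext' {σ τ : Secs a F} (h : ∀ (Ω : Type u) [Field Ω] [IsSepClosed Ω] (p : Spec (CommRingCat.of Ω) ⟶ Z)
    (η : Spec (CommRingCat.of Ω) ⟶ S) (hp : p ≫ a = η), σ.val Ω p η hp = τ.val Ω p η hp) : σ = τ := by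
  obtain ⟨v, l⟩ := σ
  obtain ⟨v', l'⟩ := τ
  have : v = v' := by
    funext Ω i j p η hp
    exact h Ω p η hp
  subst this
  rfl

theorem val_congr (σ : Secs a F) {Ω : Type u} [Field Ω] [IsSepClosed Ω] {p p' : Spec (CommRingCat.of Ω) ⟶ Z}
    (e : p = p') {η : Spec (CommRingCat.of Ω) ⟶ S} (h : p ≫ a = η) (h' : p' ≫ a = η) :
    σ.val Ω p η h = σ.val Ω p' η h' := by
  subst e; rfl

/-- A local description near a geometric point. -/
theorem exists_rep (σ : Secs a F) {Ω : Type u} [Field Ω] [IsSepClosed Ω] (p : Spec (CommRingCat.of Ω) ⟶ Z) :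
    ∃ (V : Scheme.{u}) (v : V ⟶ Z) (_ : Etale v) (p' : Spec (CommRingCat.of Ω) ⟶ V) (W : S.Etale)
      (m : V ⟶ W.left) (hm : m ≫ W.hom = v ≫ a) (t : EtDesc.sect F W), p' ≫ v = p ∧
      ∀ (Ω : Type u) [Field Ω] [IsSepClosed Ω] (q : Spec (CommRingCat.of Ω) ⟶ V)
        (η : Spec (CommRingCat.of Ω) ⟶ S) (h : (q ≫ v) ≫ a = η),
        σ.val Ω (q ≫ v) η h = gSh F (q ≫ m)
          ((Category.assoc q m W.hom).trans ((congrArg (q ≫ ·) hm).trans ((Category.assoc q v a).symm.trans h))) t := by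
  obtain ⟨V, v, hv, z', W, m, hm, t, hz, ht⟩ := σ.loc (p.base default)
  obtain ⟨p', hp', -⟩ := exists_lift v p z' hz
  exact ⟨V, v, hv, p', W, m, hm, t, hp', ht⟩

/-- Restriction along a morphism. -/
def res {Z' : Scheme.{u}} (b : Z' ⟶ Z) {a' : Z' ⟶ S} (e : b ≫ a = a') (σ : Secs a F) : Secs a' F where
  val Ω _ _ p η h := σ.val Ω (p ≫ b) η ((Category.assoc p b a).trans ((congrArg (p ≫ ·) e).trans h))
  loc z := by
    obtain ⟨V, v, hv, z', W, m, hm, t, hz, ht⟩ := σ.loc (b.base z)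
    obtain ⟨y, hy₁, -⟩ := Scheme.Pullback.exists_preimage_pullback (f := b) (g := v) z z' hz.symm
    refine ⟨pullback b v, pullback.fst b v, MorphismProperty.pullback_fst b v hv, y, W, pullback.snd b v ≫ m,
      ?_, t, hy₁, fun Ω _ _ q η h => ?_⟩
    · rw [Category.assoc, hm, ← pullback.condition_assoc, e]
    · have e1 : (q ≫ pullback.fst b v) ≫ b = (q ≫ pullback.snd b v) ≫ v := by
        rw [Category.assoc, Category.assoc, pullback.condition]
      refine (σ.val_congr e1 _ (by rw [← e1, Category.assoc, e]; exact h)).trans ?_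
      refine (ht Ω (q ≫ pullback.snd b v) η _).trans ?_
      exact gSh_congr (Category.assoc _ _ _) _ _ t

@[simp]
theorem res_val {Z' : Scheme.{u}} (b : Z' ⟶ Z) {a' : Z' ⟶ S} (e : b ≫ a = a') (σ : Secs a F)
    (Ω : Type u) [Field Ω] [IsSepClosed Ω] (p : Spec (CommRingCat.of Ω) ⟶ Z') (η : Spec (CommRingCat.of Ω) ⟶ S)
    (h : p ≫ a' = η) :
    (σ.res b e).val Ω p η h = σ.val Ω (p ≫ b) η ((Category.assoc p b a).trans ((congrArg (p ≫ ·) e).trans h)) :=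
  rfl

/-- The section given by a section of `F`. -/
def ofSect {W : S.Etale} (m : Z ⟶ W.left) (hm : m ≫ W.hom = a) (t : EtDesc.sect F W) : Secs a F where
  val Ω _ _ p η h := gSh F (p ≫ m) ((Category.assoc p m W.hom).trans ((congrArg (p ≫ ·) hm).trans h)) t
  loc z := ⟨Z, 𝟙 Z, inferInstance, z, W, m, hm.trans (Category.id_comp a).symm, t, rfl,
    fun Ω _ _ q η h => gSh_congr (congrArg (· ≫ m) (Category.comp_id q)) _ _ t⟩

@[simp]
theorem ofSect_val {W : S.Etale} (m : Z ⟶ W.left) (hm : m ≫ W.hom = a) (t : EtDesc.sect F W)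
    (Ω : Type u) [Field Ω] [IsSepClosed Ω] (p : Spec (CommRingCat.of Ω) ⟶ Z) (η : Spec (CommRingCat.of Ω) ⟶ S)
    (h : p ≫ a = η) :
    (ofSect m hm t).val Ω p η h = gSh F (p ≫ m) ((Category.assoc p m W.hom).trans ((congrArg (p ≫ ·) hm).trans h)) t :=
  rfl

/-- The open set of points near which two sections agree. -/
def eqLocus (σ τ : Secs a F) : Set Z :=
  {z | ∃ (V : Scheme.{u}) (v : V ⟶ Z) (_ : Etale v) (z' : V), v.base z' = z ∧
    ∀ (Ω : Type u) [Field Ω] [IsSepClosed Ω] (q : Spec (CommRingCat.of Ω) ⟶ V)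
      (η : Spec (CommRingCat.of Ω) ⟶ S) (h : (q ≫ v) ≫ a = η), σ.val Ω (q ≫ v) η h = τ.val Ω (q ≫ v) η h}

theorem isOpen_eqLocus (σ τ : Secs a F) : IsOpen (eqLocus σ τ) := by
  rw [isOpen_iff_forall_mem_open]
  rintro z ⟨V, v, hv, z', hz, h⟩
  exact ⟨Set.range v.base, fun y ⟨y', hy⟩ => ⟨V, v, hv, y', hy, h⟩, v.isOpenMap.isOpen_range, z', hz⟩

/-- Agreement at one geometric point over a point is agreement near the point. -/
theorem mem_eqLocus_iff (σ τ : Secs a F) {Ω : Type u} [Field Ω] [IsSepClosed Ω]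
    (p : Spec (CommRingCat.of Ω) ⟶ Z) (η : Spec (CommRingCat.of Ω) ⟶ S) (h : p ≫ a = η) :
    p.base default ∈ eqLocus σ τ ↔ σ.val Ω p η h = τ.val Ω p η h := by
  constructor
  · rintro ⟨V, v, hv, z', hz, hV⟩
    obtain ⟨q, hq, -⟩ := exists_lift v p z' hz
    exact (σ.val_congr hq.symm h (by rw [hq, h])).trans ((hV Ω q η _).trans (τ.val_congr hq (by rw [hq, h]) h))
  intro heq
  obtain ⟨V₁, v₁, hv₁, p₁, W₁, m₁, hm₁, t₁, hp₁, ht₁⟩ := σ.exists_rep p
  obtain ⟨V₂, v₂, hv₂, p₂, W₂, m₂, hm₂, t₂, hp₂, ht₂⟩ := τ.exists_rep p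
  have h₁ : (p₁ ≫ v₁) ≫ a = η := by rw [hp₁, h]
  have h₂ : (p₂ ≫ v₂) ≫ a = η := by rw [hp₂, h]
  obtain ⟨W, r₁, r₂, l, hl, hl₁, hl₂, hr⟩ := gSh_eq
    ((ht₁ Ω p₁ η h₁).symm.trans ((σ.val_congr hp₁ h₁ h).trans
      (heq.trans ((τ.val_congr hp₂ h₂ h).symm.trans (ht₂ Ω p₂ η h₂)))))
  let rl₁ : W.left ⟶ W₁.left := r₁.left
  let rl₂ : W.left ⟶ W₂.left := r₂.left
  let wh₁ : W₁.left ⟶ S := W₁.hom
  let wh₂ : W₂.left ⟶ S := W₂.hom
  have hm₁' : m₁ ≫ wh₁ = v₁ ≫ a := hm₁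
  have hm₂' : m₂ ≫ wh₂ = v₂ ≫ a := hm₂
  haveI : Etale wh₁ := W₁.prop
  haveI : Etale wh₂ := W₂.prop
  haveI : Etale W.hom := W.prop
  let V₁₂ := pullback v₁ v₂
  let μ : V₁₂ ⟶ pullback wh₁ wh₂ :=
    pullback.lift (pullback.fst v₁ v₂ ≫ m₁) (pullback.snd v₁ v₂ ≫ m₂) (by
      rw [Category.assoc, Category.assoc, hm₁', hm₂', pullback.condition_assoc])
  have hrw : rl₁ ≫ wh₁ = rl₂ ≫ wh₂ := (hom_left r₁).trans (hom_left r₂).symm
  let ρ : W.left ⟶ pullback wh₁ wh₂ := pullback.lift rl₁ rl₂ hrw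
  haveI : Etale (pullback.fst wh₁ wh₂) := MorphismProperty.pullback_fst _ _ ‹Etale wh₂›
  haveI : Etale ρ := by
    haveI : Etale (ρ ≫ pullback.fst wh₁ wh₂ ≫ wh₁) := by
      rw [pullback.lift_fst_assoc, show rl₁ ≫ wh₁ = W.hom from hom_left r₁]
      exact W.prop
    exact Etale.of_comp ρ (pullback.fst wh₁ wh₂ ≫ wh₁)
  let V := pullback μ ρ
  haveI : Etale (pullback.fst μ ρ) := MorphismProperty.pullback_fst _ _ ‹Etale ρ›
  haveI : Etale (pullback.fst v₁ v₂) := MorphismProperty.pullback_fst _ _ hv₂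
  let v : V ⟶ Z := pullback.fst μ ρ ≫ pullback.fst v₁ v₂ ≫ v₁
  let p₁₂ : Spec (CommRingCat.of Ω) ⟶ V₁₂ := pullback.lift p₁ p₂ (hp₁.trans hp₂.symm)
  let pV : Spec (CommRingCat.of Ω) ⟶ V := pullback.lift p₁₂ l (by
    apply pullback.hom_ext
    · rw [Category.assoc, Category.assoc, pullback.lift_fst, pullback.lift_fst, pullback.lift_fst_assoc]
      exact hl₁.symm
    · rw [Category.assoc, Category.assoc, pullback.lift_snd, pullback.lift_snd, pullback.lift_snd_assoc]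
      exact hl₂.symm)
  refine ⟨V, v, inferInstance, pV.base default, ?_, fun Ω' _ _ q η' h' => ?_⟩
  · have e : pV ≫ v = p := by
      rw [pullback.lift_fst_assoc, pullback.lift_fst_assoc, hp₁]
    exact congrArg (fun k : Spec (CommRingCat.of Ω) ⟶ Z => k.base default) e
  let q₁ := (q ≫ pullback.fst μ ρ) ≫ pullback.fst v₁ v₂
  let q₂ := (q ≫ pullback.fst μ ρ) ≫ pullback.snd v₁ v₂
  let lq := q ≫ pullback.snd μ ρ
  have e₁ : q ≫ v = q₁ ≫ v₁ := by simp only [v, q₁, Category.assoc]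
  have e₂ : q ≫ v = q₂ ≫ v₂ := by simp only [v, q₂, Category.assoc, pullback.condition]
  have eμ : (q ≫ pullback.fst μ ρ) ≫ μ = lq ≫ ρ := by
    simp only [lq, Category.assoc, pullback.condition]
  have f₁ : q₁ ≫ m₁ = lq ≫ rl₁ := by
    have := congrArg (· ≫ pullback.fst wh₁ wh₂) eμ
    simpa only [μ, ρ, q₁, Category.assoc, pullback.lift_fst] using this
  have f₂ : q₂ ≫ m₂ = lq ≫ rl₂ := by
    have := congrArg (· ≫ pullback.snd wh₁ wh₂) eμ
    simpa only [μ, ρ, q₂, Category.assoc, pullback.lift_snd] using this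
  have hh₁ : (q₁ ≫ v₁) ≫ a = η' := by rw [← e₁, h']
  have hh₂ : (q₂ ≫ v₂) ≫ a = η' := by rw [← e₂, h']
  have hlq₁ : (lq ≫ rl₁) ≫ wh₁ = η' := by
    rw [← f₁, Category.assoc, hm₁', ← Category.assoc, hh₁]
  have hlq : lq ≫ W.hom = η' := by
    rw [← hlq₁, Category.assoc]; exact congrArg (lq ≫ ·) (hom_left r₁).symm
  have hlq₂ : (lq ≫ rl₂) ≫ wh₂ = η' := by
    rw [← f₂, Category.assoc, hm₂', ← Category.assoc, hh₂]
  calc σ.val Ω' (q ≫ v) η' h' = gSh F (q₁ ≫ m₁) _ t₁ := (σ.val_congr e₁ h' hh₁).trans (ht₁ Ω' q₁ η' hh₁)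
    _ = gSh F (lq ≫ rl₁) hlq₁ t₁ := gSh_congr f₁ _ _ t₁
    _ = gSh F lq hlq (F.obj.map r₁.op t₁) := (gSh_map r₁ lq hlq hlq₁ t₁).symm
    _ = gSh F lq hlq (F.obj.map r₂.op t₂) := congrArg (gSh F lq hlq) hr
    _ = gSh F (lq ≫ rl₂) hlq₂ t₂ := gSh_map r₂ lq hlq hlq₂ t₂
    _ = gSh F (q₂ ≫ m₂) _ t₂ := gSh_congr f₂.symm _ _ t₂
    _ = τ.val Ω' (q ≫ v) η' h' := ((τ.val_congr e₂ h' hh₂).trans (ht₂ Ω' q₂ η' hh₂)).symm

theorem exists_point (z : Z) : ∃ (Ω : Type u) (_ : Field Ω) (_ : IsAlgClosed Ω)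
    (p : Spec (CommRingCat.of Ω) ⟶ Z), p.base default = z :=
  ⟨_, inferInstance, inferInstance, gac z, gac_default z⟩

theorem mem_eqLocus_res {Z' : Scheme.{u}} (b : Z' ⟶ Z) {a' : Z' ⟶ S} (e : b ≫ a = a') (σ τ : Secs a F)
    (z : Z') : z ∈ eqLocus (σ.res b e) (τ.res b e) ↔ b.base z ∈ eqLocus σ τ := by
  obtain ⟨Ω, _, _, p, rfl⟩ := exists_point z
  exact (mem_eqLocus_iff _ _ p _ rfl).trans (mem_eqLocus_iff σ τ (p ≫ b) (p ≫ a')
    ((Category.assoc p b a).trans (congrArg (p ≫ ·) e))).symm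

theorem eq_of_eqLocus (σ τ : Secs a F) (h : ∀ z, z ∈ eqLocus σ τ) : σ = τ :=
  ext' fun _ _ _ p η hp => (mem_eqLocus_iff σ τ p η hp).1 (h _)

theorem eqLocus_eq_univ {σ τ : Secs a F} (h : σ = τ) : eqLocus σ τ = Set.univ := by
  subst h
  exact Set.eq_univ_of_forall fun z => ⟨Z, 𝟙 Z, inferInstance, z, rfl, fun _ _ _ _ _ _ => rfl⟩

theorem res_comp {Z' Z'' : Scheme.{u}} (b : Z' ⟶ Z) {a' : Z' ⟶ S} (e : b ≫ a = a') (c : Z'' ⟶ Z')
    {a'' : Z'' ⟶ S} (e' : c ≫ a' = a'') (σ : Secs a F) :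
    (σ.res b e).res c e' = σ.res (c ≫ b) ((Category.assoc c b a).trans ((congrArg (c ≫ ·) e).trans e')) :=
  ext' fun _ _ _ p _ _ => σ.val_congr (Category.assoc p c b) _ _

theorem res_congr {Z' : Scheme.{u}} {b b' : Z' ⟶ Z} (h : b = b') {a' : Z' ⟶ S} (e : b ≫ a = a')
    (e' : b' ≫ a = a') (σ : Secs a F) : σ.res b e = σ.res b' e' := by
  subst h; rfl

theorem res_id (σ : Secs a F) : σ.res (𝟙 Z) (Category.id_comp a) = σ :=
  ext' fun _ _ _ p _ _ => σ.val_congr (Category.comp_id p) _ _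

theorem res_ofSect {Z' : Scheme.{u}} (b : Z' ⟶ Z) {a' : Z' ⟶ S} (e : b ≫ a = a') {W : S.Etale}
    (m : Z ⟶ W.left) (hm : m ≫ W.hom = a) (t : EtDesc.sect F W) :
    (ofSect m hm t).res b e = ofSect (b ≫ m) ((Category.assoc b m W.hom).trans ((congrArg (b ≫ ·) hm).trans e)) t :=
  ext' fun _ _ _ p _ _ => gSh_congr (Category.assoc p b m) _ _ t

theorem ofSect_map {W W' : S.Etale} (r : W' ⟶ W) (m : Z ⟶ W'.left) (hm : m ≫ W'.hom = a)
    (hm' : (m ≫ r.left) ≫ W.hom = a) (t : EtDesc.sect F W) :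
    ofSect m hm (F.obj.map r.op t) = ofSect (m ≫ r.left) hm' t :=
  ext' fun Ω _ _ p η h => by
    refine (gSh_map r (p ≫ m) _ ?_ t).trans (gSh_congr (Category.assoc p m r.left) _ _ t)
    exact (Category.assoc _ _ _).trans ((Category.assoc _ _ _).trans
      ((congrArg (p ≫ ·) ((Category.assoc m r.left W.hom).symm.trans hm')).trans h))

/-- Gluing along a jointly surjective family of etale morphisms. -/
theorem exists_glue {ι : Type*} (V : ι → Scheme.{u}) (v : ∀ i, V i ⟶ Z) (hv : ∀ i, Etale (v i))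
    (hcov : ∀ z : Z, ∃ (i : ι) (z' : V i), (v i).base z' = z) (s : ∀ i, Secs (v i ≫ a) F)
    (hs : ∀ (i j : ι) (Ω : Type u) [Field Ω] [IsSepClosed Ω] (p : Spec (CommRingCat.of Ω) ⟶ V i)
      (q : Spec (CommRingCat.of Ω) ⟶ V j) (η : Spec (CommRingCat.of Ω) ⟶ S) (hp : p ≫ v i ≫ a = η)
      (hq : q ≫ v j ≫ a = η), p ≫ v i = q ≫ v j → (s i).val Ω p η hp = (s j).val Ω q η hq) :
    ∃ σ : Secs a F, ∀ i, σ.res (v i) rfl = s i := by
  have key : ∀ (Ω : Type u) [Field Ω] [IsSepClosed Ω] (p : Spec (CommRingCat.of Ω) ⟶ Z),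
      ∃ (i : ι) (q : Spec (CommRingCat.of Ω) ⟶ V i), q ≫ v i = p := fun Ω _ _ p => by
    obtain ⟨i, z', hz⟩ := hcov (p.base default)
    haveI := hv i
    obtain ⟨q, hq, -⟩ := exists_lift (v i) p z' hz
    exact ⟨i, q, hq⟩
  choose i q hq using key
  let val : PtFun a F := fun Ω _ _ p η h => (s (i Ω p)).val Ω (q Ω p) η
    ((Category.assoc _ _ _).symm.trans ((congrArg (· ≫ a) (hq Ω p)).trans h))
  have hval : ∀ (j : ι) (Ω : Type u) [Field Ω] [IsSepClosed Ω] (r : Spec (CommRingCat.of Ω) ⟶ V j)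
      (η : Spec (CommRingCat.of Ω) ⟶ S) (h : (r ≫ v j) ≫ a = η) (h' : r ≫ v j ≫ a = η),
      val Ω (r ≫ v j) η h = (s j).val Ω r η h' := fun j Ω _ _ r η h h' =>
    hs _ j Ω _ r η _ h' (hq Ω (r ≫ v j))
  refine ⟨⟨val, fun z => ?_⟩, fun j => ext' fun Ω _ _ r η h => hval j Ω r η ((Category.assoc _ _ _).trans h) h⟩
  obtain ⟨j, z₀, hz₀⟩ := hcov z
  obtain ⟨V', v', hv', z', W, m, hm, t, hz', ht⟩ := (s j).loc z₀
  haveI := hv j
  refine ⟨V', v' ≫ v j, inferInstance, z', W, m, hm.trans (Category.assoc _ _ _).symm, t,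
    (congrArg (v j).base hz').trans hz₀, fun Ω _ _ r η h => ?_⟩
  have h' : ((r ≫ v') ≫ v j) ≫ a = η := by simpa only [Category.assoc] using h
  have e : r ≫ v' ≫ v j = (r ≫ v') ≫ v j := (Category.assoc _ _ _).symm
  calc val Ω (r ≫ v' ≫ v j) η h = val Ω ((r ≫ v') ≫ v j) η h' := by congr 1
    _ = (s j).val Ω (r ≫ v') η _ := hval j Ω (r ≫ v') η h' ((Category.assoc _ _ _).symm.trans h')
    _ = gSh F (r ≫ m) _ t := ht Ω r η _

end Secs

end GrothLib.EtSec
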