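import Groth.Agent.Lib.EtSec.Criterion
import Mathlib.AlgebraicGeometry.Geometrically.Connected
import Groth.Agent.Lib.BaseChange.Irred
import Mathlib.FieldTheory.IsAlgClosed.AlgebraicClosure

/-!
# Criteria for the connectedness hypothesis in base change
-/

universe u

open CategoryTheory CategoryTheory.Limits AlgebraicGeometry Opposite

set_option backward.isDefEq.respectTransparency.types false

noncomputable section

namespace GrothLib.EtSec

variable {X S : Scheme.{u}}

/-- Flatness cancels from the right along weakly etale morphisms. -/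
theorem flat_of_comp_weaklyEtale {Y Z W : Scheme.{u}} (a : Y ⟶ Z) (b : Z ⟶ W) [WeaklyEtale b] [Flat (a ≫ b)] :
    Flat a := by
  haveI : MorphismProperty.HasOfPostcompProperty @Flat @WeaklyEtale := by
    rw [MorphismProperty.hasOfPostcompProperty_iff_le_diagonal]
    intro X Y f hf
    exact hf.flat_diagonal
  exact MorphismProperty.of_postcomp (W := @Flat) (W' := @WeaklyEtale) a b ‹_› ‹_›

/-- A flat morphism all of whose maps of strict henselizations have connected geometric fibres. -/
theorem locConnected_of_strictHenselization (f : X ⟶ S) [Flat f]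
    (hconn : ∀ (x : X) (RS : Type u) [CommRing RS] [IsLocalRing RS] [Algebra (S.presheaf.stalk (f.base x)) RS]
      [IsLocalHom (algebraMap (S.presheaf.stalk (f.base x)) RS)]
      [Hensel.IsStrictHenselization (S.presheaf.stalk (f.base x)) RS]
      (RX : Type u) [CommRing RX] [IsLocalRing RX] [Algebra (X.presheaf.stalk x) RX]
      [IsLocalHom (algebraMap (X.presheaf.stalk x) RX)] [Hensel.IsStrictHenselization (X.presheaf.stalk x) RX]
      (ψ : RS →+* RX) [IsLocalHom ψ],
      ψ.comp (algebraMap (S.presheaf.stalk (f.base x)) RS) = (algebraMap (X.presheaf.stalk x) RX).comp (f.stalkMap x).hom →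
      ∀ (Ω : Type u) [Field Ω] [IsAlgClosed Ω] (η : Spec (CommRingCat.of Ω) ⟶ Spec (CommRingCat.of RS)),
        ConnectedSpace ↥(pullback (Spec.map (CommRingCat.ofHom ψ)) η)) :
    LocConnected f := by
  intro x
  let Ω := AlgebraicClosure (X.residueField x)
  let i₀ : X.residueField x →+* Ω := algebraMap (X.residueField x) Ω
  letI : Algebra (S.residueField (f.base x)) Ω := (i₀.comp (f.residueFieldMap x).hom).toAlgebra
  have hη : ptOf X x Ω ≫ f = ptOf S (f.base x) Ω := by
    show (Spec.map _ ≫ _) ≫ f = Spec.map _ ≫ _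
    rw [Category.assoc, ← Scheme.Hom.SpecMap_residueFieldMap_fromSpecResidueField, ← Category.assoc, ← Spec.map_comp]
    rfl
  obtain ⟨NX, hwX, HX, _, _, _, _, hHX, eX, heX, hpX⟩ := exists_proNbhd x Ω (ptOf X x Ω) rfl
  obtain ⟨NS, hwS, HS, _, _, _, _, hHS, eS, heS, hpS⟩ := exists_proNbhd (f.base x) Ω (ptOf X x Ω ≫ f) hη
  obtain ⟨a, ha, hap⟩ := NX.exists_hom f rfl NS
  let ψ : CommRingCat.of HS ⟶ CommRingCat.of HX := Spec.preimage (eX.hom ≫ a ≫ eS.inv)
  have hψ : Spec.map ψ = eX.hom ≫ a ≫ eS.inv := Spec.map_preimage _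
  have haψ : a = eX.inv ≫ Spec.map ψ ≫ eS.hom := by
    rw [hψ]; simp
  haveI : IsLocalHom ψ.hom := by
    rw [IsLocalRing.isLocalHom_iff_comap_closedPoint]
    have h1 : (NX.pt ≫ eX.inv) ≫ Spec.map ψ = NS.pt ≫ eS.inv := by
      rw [hψ, Category.assoc, Iso.inv_hom_id_assoc, ← Category.assoc, hap]
    have h2 := congrArg (fun k : Spec (CommRingCat.of Ω) ⟶ Spec (CommRingCat.of HS) => k.base default) h1
    rw [← hpX, ← hpS]
    exact h2
  have hcompat : ψ.hom.comp (algebraMap (S.presheaf.stalk (f.base x)) HS) =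
      (algebraMap (X.presheaf.stalk x) HX).comp (f.stalkMap x).hom := by
    have h1 : Spec.map (CommRingCat.ofHom (algebraMap (S.presheaf.stalk (f.base x)) HS) ≫ ψ) =
        Spec.map (f.stalkMap x ≫ CommRingCat.ofHom (algebraMap (X.presheaf.stalk x) HX)) := by
      rw [← cancel_mono (S.fromSpecStalk (f.base x)), Spec.map_comp, Spec.map_comp, Category.assoc, Category.assoc,
        ← heS, Scheme.SpecMap_stalkMap_fromSpecStalk, ← Category.assoc, hψ]
      simp only [Category.assoc, Iso.inv_hom_id_assoc, ha]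
      exact ((Category.assoc _ _ _).symm.trans (congrArg (· ≫ f) heX)).trans (Category.assoc _ _ _)
    exact congrArg CommRingCat.Hom.hom (Spec.map_injective h1)
  haveI := hwX
  haveI := hwS
  haveI : Flat (NX.bc ≫ f) := inferInstance
  haveI hflat : Flat a := by
    haveI : Flat (a ≫ NS.bc) := by rw [ha]; infer_instance
    exact flat_of_comp_weaklyEtale a NS.bc
  have hflatψ : Flat (Spec.map ψ) := by rw [hψ]; infer_instance
  have hsurjψ : Surjective (Spec.map ψ) := by
    refine ⟨?_⟩
    letI := ψ.hom.toAlgebra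
    haveI : Module.Flat HS HX := Flat.SpecMap_iff.1 hflatψ
    haveI : IsLocalHom (algebraMap HS HX) := ‹IsLocalHom ψ.hom›
    haveI : Module.FaithfullyFlat HS HX := .of_flat_of_isLocalHom
    exact PrimeSpectrum.comap_surjective_of_faithfullyFlat
  refine ⟨Ω, inferInstance, inferInstance, ptOf X x Ω, ptOf_default x Ω, NX, NS, a, ha, hap, uGen_of_flat a, ?_, ?_⟩
  · haveI := hsurjψ
    rw [haψ]; infer_instance
  · intro K _ _ η
    haveI := hconn x HS HX ψ.hom hcompat K (η ≫ eS.inv)
    have sq : IsPullback eX.hom (Spec.map ψ) a eS.hom :=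
      IsPullback.of_horiz_isIso ⟨by rw [hψ]; simp⟩
    have sq' : IsPullback (pullback.fst (Spec.map ψ) (η ≫ eS.inv) ≫ eX.hom) (pullback.snd (Spec.map ψ) (η ≫ eS.inv))
        a η := by
      have := (IsPullback.of_hasPullback (Spec.map ψ) (η ≫ eS.inv)).paste_horiz sq
      simpa using this
    exact sq'.isoPullback.hom.homeomorph.surjective.connectedSpace sq'.isoPullback.hom.continuous

theorem connectedSpace_of_isLocalRing (R : Type u) [CommRing R] [IsLocalRing R] :
    ConnectedSpace ↥(Spec (CommRingCat.of R)) := by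
  haveI : Nonempty ↥(Spec (CommRingCat.of R)) := ⟨IsLocalRing.closedPoint R⟩
  haveI : PreconnectedSpace ↥(Spec (CommRingCat.of R)) := by
    refine ⟨fun u v hu hv huv hnu hnv => ?_⟩
    rcases huv (Set.mem_univ (IsLocalRing.closedPoint R)) with h | h
    · obtain ⟨y, hy⟩ := hnv
      exact ⟨y, hy.1, (IsLocalRing.specializes_closedPoint y).mem_open hu h, hy.2⟩
    · obtain ⟨y, hy⟩ := hnu
      exact ⟨y, hy.1, hy.2, (IsLocalRing.specializes_closedPoint y).mem_open hv h⟩
  exact ⟨‹_›⟩

/-- Any morphism to the spectrum of a field. -/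
theorem locConnected_of_field {k : Type u} [Field k] (f : X ⟶ Spec (CommRingCat.of k)) : LocConnected f := by
  refine locConnected_of_strictHenselization f fun x RS _ _ _ _ hRS RX _ _ _ _ _ ψ _ _ Ω _ _ η => ?_
  let R := (Spec (CommRingCat.of k)).presheaf.stalk (f.base x)
  haveI : IsReduced (Spec (CommRingCat.of k)) := inferInstance
  haveI : Subsingleton ↥(Spec (CommRingCat.of k)) := inferInstanceAs (Subsingleton (PrimeSpectrum k))
  haveI : Subsingleton (PrimeSpectrum R) :=
    ((Spec (CommRingCat.of k)).fromSpecStalk (f.base x)).isEmbedding.injective.subsingleton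
  have hR : IsField R := IsLocalRing.isField_iff_maximalIdeal_eq.2 (eq_bot_iff.2 fun r hr =>
    (Ideal.mem_bot).2 (IsNilpotent.eq_zero (nilpotent_iff_mem_prime.2 fun J hJ => by
      have := congrArg PrimeSpectrum.asIdeal (Subsingleton.elim (IsLocalRing.closedPoint R) ⟨J, hJ⟩)
      exact this.le hr)))
  have hmax : IsLocalRing.maximalIdeal RS = ⊥ := by
    rw [← GrothLib.Hensel.IsStrictHenselization.map_maximalIdeal (R := R) (S := RS),
      IsLocalRing.isField_iff_maximalIdeal_eq.1 hR, Ideal.map_bot]
  letI : Field RS := (IsLocalRing.isField_iff_maximalIdeal_eq.2 hmax).toField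
  haveI : IsSepClosed RS := by
    haveI := hRS.isSepClosure
    haveI : IsSepClosed (IsLocalRing.ResidueField RS) := IsSepClosure.sep_closed (IsLocalRing.ResidueField R)
    refine IsSepClosed.of_exists_root _ fun p hp hpi hps => ?_
    let e : RS ≃+* IsLocalRing.ResidueField RS :=
      RingEquiv.ofBijective (IsLocalRing.residue RS) ⟨(IsLocalRing.residue RS).injective, IsLocalRing.residue_surjective⟩
    obtain ⟨y, hy⟩ := IsSepClosed.exists_root (p.map e.toRingHom)
      (by rw [Polynomial.degree_map]; exact (Irreducible.degree_pos hpi).ne')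
      (hps.map)
    refine ⟨e.symm y, e.injective ?_⟩
    have h1 := Polynomial.eval_map_apply (f := e.toRingHom) (p := p) (e.symm y)
    rw [map_zero]
    refine h1.symm.trans ?_
    rw [show e.toRingHom (e.symm y) = y from e.apply_symm_apply y]
    exact hy
  letI : Algebra RS Ω := (Spec.preimage η).hom.toAlgebra
  have hη : η = Spec.map (CommRingCat.ofHom (algebraMap RS Ω)) := (Spec.map_preimage η).symm
  rw [hη]
  haveI := GrothLib.BaseChange.geometricallyIrreducible_spec_of_isSepClosed RS Ω
  haveI : GeometricallyConnected (Spec.map (CommRingCat.ofHom (algebraMap RS Ω))) := by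
    refine ⟨fun M _ y Z fst snd h => ?_⟩
    have := GeometricallyIrreducible.geometrically_irreducibleSpace (f := Spec.map (CommRingCat.ofHom (algebraMap RS Ω))) _ _ _ h
    infer_instance
  haveI : ConnectedSpace ↥(Spec (CommRingCat.of RX)) :=
    connectedSpace_of_isLocalRing RX
  infer_instance

end GrothLib.EtSec
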