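import Groth.Agent.Lib.Hensel.Henselization
import Mathlib.RingTheory.Unramified.Field
import Mathlib.RingTheory.Polynomial.ScaleRoots
import Mathlib.RingTheory.Localization.Integer
import Mathlib.RingTheory.TensorProduct.Maps

/-!
# The strict henselization of a localization as a colimit of etale algebras

Let `R` be a localization of `A` at a prime and `C` a separable closure of the residue field of
`R`.  Then `Hull A C` is a strict henselization of `R`.
-/

namespace GrothLib.EtSec

open IsLocalRing Polynomial GrothLib.Hensel
open scoped TensorProduct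

universe u

namespace SHull

variable {A C : Type u} [CommRing A] [Field C] [Algebra A C]

theorem isUnit_iff (x : Hull A C) : IsUnit x ↔ Hull.proj x ≠ 0 :=
  ⟨fun h ↦ (h.map Hull.proj).ne_zero, fun h ↦ Hull.isUnit_of_isUnit_proj h.isUnit⟩

theorem nontrivial : Nontrivial (Hull A C) := (Hull.proj (A := A) (C := C)).toRingHom.domain_nontrivial

instance isLocalRing : IsLocalRing (Hull A C) := by
  haveI := nontrivial (A := A) (C := C)
  refine .of_nonunits_add fun {a b} ha hb ↦ ?_
  simp only [mem_nonunits_iff, isUnit_iff, ne_eq, not_not] at *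
  rw [map_add, ha, hb, add_zero]

theorem maximalIdeal_eq :
    maximalIdeal (Hull A C) = RingHom.ker (Hull.proj : Hull A C →ₐ[A] C).toRingHom := by
  ext x
  simp [mem_maximalIdeal, mem_nonunits_iff, isUnit_iff]

instance henselianLocalRing : HenselianLocalRing (Hull A C) := by
  refine henselianLocalRing_of_henselianRing ?_
  rw [maximalIdeal_eq]
  exact Hull.henselianRing

section sep

variable (κ : Type u) [Field κ] [Algebra A κ] [Algebra κ C] [IsScalarTower A κ C]

/-- The values of an etale algebra in an extension of a field are separable. -/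
theorem isSeparable_of_etale {A' : Type u} [CommRing A'] [Algebra A A'] [Algebra.Etale A A']
    (φ : A' →ₐ[A] C) (a : A') : IsSeparable κ (φ a) := by
  obtain ⟨ψ, hψ⟩ : ∃ ψ : TensorProduct A κ A' →ₐ[κ] C, ψ ((1 : κ) ⊗ₜ[A] a) = φ a :=
    ⟨Algebra.TensorProduct.lift (Algebra.ofId κ C) φ fun _ _ => Commute.all _ _, by simp⟩
  haveI : Algebra.FormallyUnramified κ ψ.range :=
    .of_surjective ψ.rangeRestrict ψ.rangeRestrict_surjective
  haveI : Algebra.FiniteType κ ψ.range := .of_surjective ψ.rangeRestrict ψ.rangeRestrict_surjective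
  haveI : Module.Finite κ ψ.range := Algebra.FormallyUnramified.finite_of_free κ ψ.range
  haveI : Algebra.IsSeparable κ ψ.range := by
    letI : Field ψ.range := (isField_of_isIntegral_of_isField' (Field.toIsField κ)).toField
    exact Algebra.FormallyUnramified.isSeparable κ ψ.range
  exact Subalgebra.isSeparable_iff.1 ‹Algebra.IsSeparable κ ψ.range› (φ a) ⟨_, hψ⟩

end sep

variable {R : Type u} [CommRing R] [IsLocalRing R] [Algebra A R]
  [IsLocalization.AtPrime R ((maximalIdeal R).comap (algebraMap A R))]
  [Algebra (ResidueField R) C] [IsScalarTower A (ResidueField R) C]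

theorem algebraMap_ne_zero (s : ((maximalIdeal R).comap (algebraMap A R)).primeCompl) :
    algebraMap A C (s : A) ≠ 0 := by
  rw [IsScalarTower.algebraMap_apply A (ResidueField R) C, ne_eq, map_eq_zero,
    IsScalarTower.algebraMap_apply A R (ResidueField R), ResidueField.algebraMap_eq, residue_eq_zero_iff]
  exact s.2

/-- Separable elements are values of etale neighbourhoods, up to a denominator. -/
theorem exists_nbhd_smul [Algebra.IsSeparable (ResidueField R) C] (c : C) :
    ∃ (s : ((maximalIdeal R).comap (algebraMap A R)).primeCompl) (N : Nbhd A C) (a : N.Ring),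
      N.pt a = algebraMap A C (s : A) * c := by
  classical
  have hc : IsSeparable (ResidueField R) c := Algebra.IsSeparable.isSeparable _ c
  have hi : IsIntegral (ResidueField R) c := hc.isIntegral
  set g := minpoly (ResidueField R) c with hg
  choose l hl using fun i : ℕ => residue_surjective (g.coeff i)
  obtain ⟨s, hs⟩ := IsLocalization.exist_integer_multiples
    ((maximalIdeal R).comap (algebraMap A R)).primeCompl (Finset.range (g.natDegree + 1)) l
  refine ⟨s, ?_⟩
  let β : ResidueField R := algebraMap A (ResidueField R) (s : A)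
  have hβ : algebraMap (ResidueField R) C β = algebraMap A C (s : A) :=
    (IsScalarTower.algebraMap_apply A (ResidueField R) C (s : A)).symm
  have hβ0 : β ≠ 0 := fun h => algebraMap_ne_zero (R := R) (C := C) s (by rw [← hβ, h, map_zero])
  have hmon : (scaleRoots g β).Monic := (monic_scaleRoots_iff β).2 (minpoly.monic hi)
  have hlift : scaleRoots g β ∈ Polynomial.lifts (algebraMap A (ResidueField R)) := by
    rw [Polynomial.lifts_iff_coeff_lifts]
    intro i
    rw [coeff_scaleRoots]
    rcases lt_or_ge i g.natDegree with hid | hid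
    · obtain ⟨a, ha⟩ := hs i (Finset.mem_range.2 (by omega))
      refine ⟨a * (s : A) ^ (g.natDegree - i - 1), ?_⟩
      have ha' : algebraMap A (ResidueField R) a = β * g.coeff i := by
        rw [IsScalarTower.algebraMap_apply A R (ResidueField R), ha, Algebra.smul_def, ResidueField.algebraMap_eq,
          map_mul, hl]
        rfl
      rw [map_mul, map_pow, ha', show g.natDegree - i = g.natDegree - i - 1 + 1 by omega, pow_succ]
      simp only [show g.natDegree - i - 1 + 1 - 1 = g.natDegree - i - 1 by omega, β]
      ring
    · rcases hid.eq_or_lt with rfl | h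
      · exact ⟨1, by simp [(minpoly.monic hi).coeff_natDegree, hg]⟩
      · exact ⟨0, by simp [coeff_eq_zero_of_natDegree_lt h]⟩
  obtain ⟨f, hf, -, hfm⟩ := lifts_and_degree_eq_and_monic hlift hmon
  let c' := algebraMap A C (s : A) * c
  have hroot : aeval c' (scaleRoots g β) = 0 := by
    show aeval (algebraMap A C (s : A) * c) (scaleRoots g β) = 0
    rw [← hβ]
    exact scaleRoots_aeval_eq_zero (minpoly.aeval _ c)
  have hc' : IsSeparable (ResidueField R) c' := Algebra.IsSeparable.isSeparable _ c'
  have hmin : minpoly (ResidueField R) c' = scaleRoots g β := by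
    refine (eq_of_monic_of_dvd_of_natDegree_le (minpoly.monic hc'.isIntegral) hmon (minpoly.dvd _ _ hroot) ?_).symm
    rw [natDegree_scaleRoots]
    refine (natDegree_le_natDegree (minpoly.min _ c
      ((monic_scaleRoots_iff β⁻¹).2 (minpoly.monic hc'.isIntegral)) ?_)).trans (natDegree_scaleRoots _ _).le
    have hcc : c = algebraMap (ResidueField R) C β⁻¹ * c' := by
      show c = algebraMap (ResidueField R) C β⁻¹ * (algebraMap A C (s : A) * c)
      rw [← hβ, ← mul_assoc, ← map_mul, inv_mul_cancel₀ hβ0, map_one, one_mul]
    rw [hcc]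
    exact scaleRoots_aeval_eq_zero (minpoly.aeval _ c')
  let P := simpleRootPair f hfm
  have hev : ∀ q : A[X], aeval c' q = aeval c' (q.map (algebraMap A (ResidueField R))) := fun q ↦
    (aeval_map_algebraMap (ResidueField R) c' q).symm
  have hmap : P.HasMap c' := by
    refine ⟨?_, ?_⟩
    · rw [hev]
      show aeval c' (f.map (algebraMap A (ResidueField R))) = 0
      rw [hf]; exact hroot
    · rw [hev]
      show IsUnit (aeval c' (f.derivative.map (algebraMap A (ResidueField R))))
      rw [← derivative_map, hf, ← hmin]
      exact (hc'.aeval_derivative_ne_zero (minpoly.aeval _ _)).isUnit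
  refine ⟨Nbhd.ofEtale P.Ring (P.lift c' hmap), Nbhd.ofEtaleEquiv P.Ring (P.lift c' hmap) P.X, ?_⟩
  exact (AlgHom.congr_fun (Nbhd.ofEtale_pt P.Ring (P.lift c' hmap)) P.X).trans (P.lift_X _ hmap)

theorem proj_surjective [Algebra.IsSeparable (ResidueField R) C] :
    Function.Surjective (Hull.proj : Hull A C →ₐ[A] C) := fun c => by
  obtain ⟨s, N, a, ha⟩ := exists_nbhd_smul (A := A) (R := R) c
  have hu : IsUnit (algebraMap A (Hull A C) (s : A)) := by
    rw [isUnit_iff, AlgHom.commutes]
    exact algebraMap_ne_zero (R := R) s
  refine ⟨↑hu.unit⁻¹ * Hull.ι N a, ?_⟩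
  rw [map_mul, Hull.proj_ι, ha, ← mul_assoc]
  have h1 := congrArg (Hull.proj : Hull A C →ₐ[A] C) hu.val_inv_mul
  rw [map_mul, map_one, AlgHom.commutes] at h1
  rw [h1, one_mul]

theorem isUnit_algebraMap (s : ((maximalIdeal R).comap (algebraMap A R)).primeCompl) :
    IsUnit (algebraMap A (Hull A C) (s : A)) := by
  rw [isUnit_iff, AlgHom.commutes]
  exact algebraMap_ne_zero (R := R) s

variable (R C) in
/-- The canonical map from the localization. -/
noncomputable def toHull : R →+* Hull A C :=
  IsLocalization.lift (M := ((maximalIdeal R).comap (algebraMap A R)).primeCompl) (isUnit_algebraMap (R := R))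

theorem toHull_algebraMap (a : A) : toHull C R (algebraMap A R a) = algebraMap A (Hull A C) a :=
  IsLocalization.lift_eq _ a

theorem proj_toHull (r : R) :
    Hull.proj (toHull C R r : Hull A C) = algebraMap (ResidueField R) C (residue R r) := by
  have : (Hull.proj : Hull A C →ₐ[A] C).toRingHom.comp (toHull C R) =
      (algebraMap (ResidueField R) C).comp (residue R) :=
    IsLocalization.ringHom_ext ((maximalIdeal R).comap (algebraMap A R)).primeCompl (RingHom.ext fun a => by
      simp only [RingHom.comp_apply, toHull_algebraMap]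
      rw [show ((Hull.proj : Hull A C →ₐ[A] C).toRingHom : Hull A C → C) (algebraMap A _ a) = algebraMap A C a from
        AlgHom.commutes _ a, IsScalarTower.algebraMap_apply A (ResidueField R) C,
        IsScalarTower.algebraMap_apply A R (ResidueField R), ResidueField.algebraMap_eq])
  exact RingHom.congr_fun this r

theorem isLocalHom_toHull : IsLocalHom (toHull C R : R →+* Hull A C) := ⟨fun r hr => by
  rw [isUnit_iff, proj_toHull, ne_eq, map_eq_zero, residue_eq_zero_iff] at hr
  exact of_not_not (fun h => hr ((mem_maximalIdeal _).2 h))⟩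

/-- `Hull A C` is a strict henselization of the localization. -/
theorem isStrictHenselization [IsSepClosed C] [Algebra.IsSeparable (ResidueField R) C]
    [Algebra R (Hull A C)] (halg : algebraMap R (Hull A C) = toHull C R)
    [IsLocalHom (algebraMap R (Hull A C))] :
    _root_.Hensel.IsStrictHenselization R (Hull A C) := by
  haveI : IsScalarTower A R (Hull A C) := IsScalarTower.of_algebraMap_eq fun a => by
    rw [halg, toHull_algebraMap]
  haveI : IsLocalHom (Hull.proj : Hull A C →ₐ[A] C).toRingHom := ⟨fun _ h => Hull.isUnit_of_isUnit_proj h⟩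
  let e₀ : ResidueField (Hull A C) →ₐ[ResidueField R] C :=
    { toRingHom := ResidueField.lift (Hull.proj : Hull A C →ₐ[A] C).toRingHom
      commutes' := fun r => by
        obtain ⟨r, rfl⟩ := residue_surjective r
        show ResidueField.lift _ (residue (Hull A C) (algebraMap R (Hull A C) r)) = _
        rw [halg]
        exact proj_toHull r }
  have he₀ : ∀ x, e₀ (residue (Hull A C) x) = Hull.proj x := fun x => rfl
  have hbij : Function.Bijective e₀ := ⟨RingHom.injective _, fun c => by
    obtain ⟨x, rfl⟩ := proj_surjective (A := A) (R := R) c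
    exact ⟨residue _ x, he₀ x⟩⟩
  let e := AlgEquiv.ofBijective e₀ hbij
  refine ⟨inferInstance, ?_, fun T _ _ f hf τ hτ => ?_⟩
  · exact @isSepClosure_of_algEquiv _ _ _ _ _ _ _ _ e.symm ⟨inferInstance, inferInstance⟩
  let _ : Algebra A T := (f.comp (algebraMap A R)).toAlgebra
  let γ : C →ₐ[A] T ⧸ maximalIdeal T :=
    { τ.comp e.symm.toRingEquiv.toRingHom with
      commutes' := fun a ↦ by
        show τ (e.symm (algebraMap A C a)) = residue T (f (algebraMap A R a))
        rw [IsScalarTower.algebraMap_apply A (ResidueField R) C, AlgEquiv.commutes,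
          IsScalarTower.algebraMap_apply A R (ResidueField R)]
        exact RingHom.congr_fun hτ (residue R (algebraMap A R a)) }
  obtain ⟨g, hg, huniq⟩ := Hull.existsUnique_lift (maximalIdeal T) γ
  have hγ : ∀ x, γ (Hull.proj x) = τ (residue (Hull A C) x) := fun x ↦ by
    show τ (e.symm _) = _
    rw [← he₀, show e₀ (residue _ x) = e (residue _ x) from rfl, e.symm_apply_apply]
  have hR : g.toRingHom.comp (algebraMap R (Hull A C)) = f :=
    IsLocalization.ringHom_ext ((maximalIdeal R).comap (algebraMap A R)).primeCompl (RingHom.ext fun a => by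
      simp only [RingHom.comp_apply, halg, toHull_algebraMap]
      exact g.commutes a)
  refine ⟨g.toRingHom, ⟨hR, fun x ↦ (AlgHom.congr_fun hg x).trans (hγ x)⟩, ?_⟩
  rintro g' ⟨hg'1, hg'2⟩
  let g₁ : Hull A C →ₐ[A] T := { g' with commutes' := fun a => (by
      show g' (algebraMap A (Hull A C) a) = f (algebraMap A R a)
      rw [← toHull_algebraMap (R := R), ← halg, ← RingHom.comp_apply, hg'1]) }
  exact congrArg AlgHom.toRingHom
    (huniq g₁ (AlgHom.ext fun x ↦ (hg'2 x).trans (hγ x).symm))

end SHull

end GrothLib.EtSec
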