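import Groth.Agent.Lib.EtSec.BCKey
import Groth.Agent.Lib.EtSec.AbCompare
import Groth.Agent.Lib.EtSite.BCPoint

/-!
# Degree zero base change is detected on strict localizations
-/

universe u

open CategoryTheory CategoryTheory.Limits AlgebraicGeometry Opposite
open GrothLib.EtSite

set_option backward.isDefEq.respectTransparency.types false

noncomputable section

namespace GrothLib.EtSec

variable {X S Y T : Scheme.{u}} (g : T ⟶ S) (f : X ⟶ S)

section abstract

variable {F : EtDesc.Sh T} {P G : EtDesc.Sh X} (α : P ⟶ G)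
  (secs : ∀ U : X.Etale, EtDesc.sect G U → Secs (pullback.snd (U.hom ≫ f) g) F)
  (u : ∀ W : S.Etale, Secs (pullback.snd W.hom g) F → EtDesc.sect P ((EtCoh.bc f).obj W))
  {Ω : Type u} [Field Ω] [IsSepClosed Ω] {ξ : Spec (CommRingCat.of Ω) ⟶ X}

theorem stalk_bijective (d : KeyData g f F ξ)
    (hinj : ∀ U, Function.Injective (secs U))
    (hnat : ∀ {U U' : X.Etale} (r : U' ⟶ U) (σ : EtDesc.sect G U), secs U' (G.obj.map r.op σ) =
      resT g r.left ((Category.assoc _ _ _).symm.trans (congrArg (· ≫ f) (hom_left r))) (secs U σ))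
    (hu : ∀ {W W' : S.Etale} (r : W' ⟶ W) (s : Secs (pullback.snd W.hom g) F),
      u W' (resT g r.left (hom_left r) s) = P.obj.map ((EtCoh.bc f).map r).op (u W s))
    (hP : ∀ x : (stalkSh ξ).obj P, ∃ (W : S.Etale) (l : Spec (CommRingCat.of Ω) ⟶ W.left) (hl : l ≫ W.hom = ξ ≫ f)
      (s : Secs (pullback.snd W.hom g) F), gSh P (pullback.lift l ξ hl) (pullback.lift_snd _ _ _) (u W s) = x)
    (hα : ∀ (W : S.Etale) (s : Secs (pullback.snd W.hom g) F),
      secs _ (α.hom.app (op ((EtCoh.bc f).obj W)) (u W s)) = resT g (pullback.fst W.hom f) (bc_cond f W) s) :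
    Function.Bijective ((stalkSh ξ).map α) := by
  have himg : ∀ (W : S.Etale) (l : Spec (CommRingCat.of Ω) ⟶ W.left) (hl : l ≫ W.hom = ξ ≫ f)
      (s : Secs (pullback.snd W.hom g) F),
      (stalkSh ξ).map α (gSh P (pullback.lift l ξ hl) (pullback.lift_snd _ _ _) (u W s)) =
        gSh G (pullback.lift l ξ hl) (pullback.lift_snd _ _ _) (α.hom.app (op ((EtCoh.bc f).obj W)) (u W s)) :=
    fun W l hl s => (Scheme.pointSmallEtale ξ).toPresheafFiber_naturality_apply α.hom _ _ _
  have hmove : ∀ {W W' : S.Etale} (r : W' ⟶ W) (l' : Spec (CommRingCat.of Ω) ⟶ W'.left)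
      (hl' : l' ≫ W'.hom = ξ ≫ f) (hl : (l' ≫ r.left) ≫ W.hom = ξ ≫ f) (s : Secs (pullback.snd W.hom g) F),
      gSh P (pullback.lift (l' ≫ r.left) ξ hl) (pullback.lift_snd _ _ _) (u W s) =
        gSh P (pullback.lift l' ξ hl') (pullback.lift_snd _ _ _) (u W' (resT g r.left (hom_left r) s)) := by
    intro W W' r l' hl' hl s
    have e : pullback.lift l' ξ hl' ≫ ((EtCoh.bc f).map r).left = pullback.lift (l' ≫ r.left) ξ hl := by
      apply pullback.hom_ext
      · refine (Category.assoc _ _ _).trans ((congrArg (_ ≫ ·) (EtCoh.isPullback_bc_map f r).w).trans ?_)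
        exact (pullback.lift_fst_assoc _ _ _ _).trans (pullback.lift_fst _ _ _).symm
      · refine (Category.assoc _ _ _).trans ((congrArg (_ ≫ ·) (Over.w ((EtCoh.bc f).map r).hom)).trans ?_)
        exact (pullback.lift_snd _ _ _).trans (pullback.lift_snd _ _ _).symm
    rw [hu]
    refine (gSh_congr e.symm (pullback.lift_snd _ _ _) ?_ _).trans (gSh_map _ _ (pullback.lift_snd _ _ _) _ _).symm
    exact (congrArg (fun j : Spec (CommRingCat.of Ω) ⟶ ((EtCoh.bc f).obj W).left => j ≫ ((EtCoh.bc f).obj W).hom) e).trans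
      (pullback.lift_snd _ _ _)
  constructor
  · intro x x' hxx'
    obtain ⟨W₁, l₁, hl₁, s₁, rfl⟩ := hP x
    obtain ⟨W₂, l₂, hl₂, s₂, rfl⟩ := hP x'
    obtain ⟨⟨W, w⟩, ⟨k₁, e₁⟩, ⟨k₂, e₂⟩, -⟩ := IsCofilteredOrEmpty.cone_objs
      (C := (Scheme.pointSmallEtale (ξ ≫ f)).fiber.Elements) ⟨W₁, fib _ l₁ hl₁⟩ ⟨W₂, fib _ l₂ hl₂⟩
    dsimp only at k₁ k₂ e₁ e₂
    have f₁ : w.left ≫ k₁.left = l₁ := congrArg CommaMorphism.left e₁
    have f₂ : w.left ≫ k₂.left = l₂ := congrArg CommaMorphism.left e₂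
    subst f₁
    subst f₂
    let wl : Spec (CommRingCat.of Ω) ⟶ W.left := w.left
    have hwl : wl ≫ W.hom = ξ ≫ f := Over.w w
    have g₁ := hmove k₁ wl (hwl) hl₁ s₁
    have g₂ := hmove k₂ wl (hwl) hl₂ s₂
    refine g₁.trans (Eq.trans ?_ g₂.symm)
    have hG := ((himg W wl (hwl) _).symm.trans (((congrArg ((stalkSh ξ).map α) g₁).symm.trans hxx').trans
      (congrArg ((stalkSh ξ).map α) g₂))).trans (himg W wl (hwl) _)
    obtain ⟨U, r₁, r₂, q, hq, hq₁, hq₂, he⟩ := gSh_eq hG
    have h1 := ((((congrArg (resT g r₁.left _) (hα W _)).trans (resT_resT g _ _ _ _ _)).symm.trans (hnat r₁ _).symm).trans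
      ((congrArg (secs U) he).trans ((hnat r₂ _).trans
        ((congrArg (resT g r₂.left _) (hα W _)).trans (resT_resT g _ _ _ _ _)))))
    have hc : ∀ r : U ⟶ (EtCoh.bc f).obj W, q ≫ r.left = pullback.lift wl ξ (hwl) →
        q ≫ r.left ≫ pullback.fst W.hom f = wl := fun r hr =>
      ((Category.assoc _ _ _).symm.trans (congrArg (· ≫ pullback.fst W.hom f) hr)).trans (pullback.lift_fst _ _ _)
    obtain ⟨W', r, l', hl', hr, hs⟩ := d.inj wl (hwl) _ _ q hq _ _ _ _ (hc r₁ hq₁) (hc r₂ hq₂) h1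
    have e : ∀ t : Secs (pullback.snd W.hom g) F,
        gSh P (pullback.lift wl ξ (hwl)) (pullback.lift_snd _ _ _) (u W t) =
          gSh P (pullback.lift l' ξ hl') (pullback.lift_snd _ _ _) (u W' (resT g r.left (hom_left r) t)) := by
      intro t
      refine (gSh_congr ?_ _ (pullback.lift_snd _ _ _) _).trans (hmove r l' hl' ((congrArg (· ≫ W.hom) hr).trans hwl) t)
      exact pullback.hom_ext ((pullback.lift_fst _ _ _).trans (hr.symm.trans (pullback.lift_fst _ _ _).symm))
        ((pullback.lift_snd _ _ _).trans (pullback.lift_snd _ _ _).symm)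
    exact (e _).trans ((congrArg (fun t => gSh P (pullback.lift l' ξ hl') (pullback.lift_snd _ _ _) (u W' t)) hs).trans
      (e _).symm)
  · intro y
    obtain ⟨U, q, hq, σ, rfl⟩ := exists_gSh y
    obtain ⟨W, l, hl, s, U', r, m, hm, q', hq', hqr, hqm, he⟩ := d.surj q hq (secs U σ)
    let r' : U' ⟶ (EtCoh.bc f).obj W :=
      MorphismProperty.Over.homMk (pullback.lift m U'.hom hm) (pullback.lift_snd _ _ _)
    refine ⟨gSh P (pullback.lift l ξ hl) (pullback.lift_snd _ _ _) (u W s), (himg W l hl s).trans ?_⟩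
    have h2 : G.obj.map r'.op (α.hom.app (op ((EtCoh.bc f).obj W)) (u W s)) = G.obj.map r.op σ :=
      hinj U' ((hnat r' _).trans ((congrArg (resT g r'.left _) (hα W s)).trans ((resT_resT g _ _ _ _ s).trans
        ((resT_congr g (pullback.lift_fst _ _ _) _ hm s).trans (he.symm.trans (hnat r σ).symm)))))
    have h3 : q' ≫ r'.left = pullback.lift l ξ hl := pullback.hom_ext
      ((Category.assoc _ _ _).trans ((congrArg (q' ≫ ·) (pullback.lift_fst _ _ _)).trans
        (hqm.trans (pullback.lift_fst _ _ _).symm)))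
      ((Category.assoc _ _ _).trans ((congrArg (q' ≫ ·) (pullback.lift_snd _ _ _)).trans
        (hq'.trans (pullback.lift_snd _ _ _).symm)))
    refine (gSh_congr h3.symm (pullback.lift_snd _ _ _) ((congrArg (fun j : Spec (CommRingCat.of Ω) ⟶ ((EtCoh.bc f).obj W).left =>
        j ≫ ((EtCoh.bc f).obj W).hom) h3).trans (pullback.lift_snd _ _ _)) _).trans ?_
    exact ((gSh_map r' q' hq' ((congrArg (fun j : Spec (CommRingCat.of Ω) ⟶ ((EtCoh.bc f).obj W).left =>
        j ≫ ((EtCoh.bc f).obj W).hom) h3).trans (pullback.lift_snd _ _ _)) _).symm.trans (congrArg (gSh G q' hq') h2)).trans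
      ((gSh_map r q' hq' ((congrArg (fun j : Spec (CommRingCat.of Ω) ⟶ U.left => j ≫ U.hom) hqr).trans hq) σ).trans
        (gSh_congr hqr _ _ σ))

end abstract

section concrete

theorem pullStalkSh_inv_hom {Ω : Type u} [Field Ω] [IsSepClosed Ω] (ξ : Spec (CommRingCat.of Ω) ⟶ X)
    (H : EtDesc.Sh S) (x) :
    (pullStalkShIso ξ f).inv.app H ((pullStalkShIso ξ f).hom.app H x) = x := by
  rw [← ConcreteCategory.comp_apply, Iso.hom_inv_id_app]
  rfl

variable (h : Y ⟶ X) (e : Y ⟶ T) (hsq : IsPullback e h g f)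

/-- The comparison of `U ×_S T` with `U ×_X Y`. -/
def ψ (U : X.Etale) : pullback (U.hom ≫ f) g ⟶ pullback U.hom h :=
  pullback.lift (pullback.fst _ _) (hsq.lift (pullback.snd _ _) (pullback.fst _ _ ≫ U.hom)
    (((Category.assoc _ _ _).trans pullback.condition).symm)) (hsq.lift_snd _ _ _).symm

theorem ψ_fst (U : X.Etale) : ψ g f h e hsq U ≫ pullback.fst U.hom h = pullback.fst (U.hom ≫ f) g :=
  pullback.lift_fst _ _ _

theorem ψ_snd (U : X.Etale) :
    ψ g f h e hsq U ≫ ((EtCoh.bc h).obj U).hom ≫ e = pullback.snd (U.hom ≫ f) g :=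
  (pullback.lift_snd_assoc _ _ _ _).trans (hsq.lift_fst _ _ _)

instance isIso_ψ (U : X.Etale) : IsIso (ψ g f h e hsq U) := by
  refine ⟨pullback.lift (pullback.fst U.hom h) (pullback.snd U.hom h ≫ e) ?_, ?_, ?_⟩
  · rw [pullback.condition_assoc, Category.assoc, hsq.w]
  · apply pullback.hom_ext
    · rw [Category.assoc, pullback.lift_fst, Category.id_comp]; exact ψ_fst g f h e hsq U
    · rw [Category.assoc, pullback.lift_snd, Category.id_comp]; exact ψ_snd g f h e hsq U
  · apply pullback.hom_ext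
    · rw [Category.assoc, ψ_fst, pullback.lift_fst, Category.id_comp]
    · apply hsq.hom_ext
      · rw [Category.id_comp, Category.assoc, Category.assoc]
        exact (congrArg (_ ≫ ·) (ψ_snd g f h e hsq U)).trans (pullback.lift_snd _ _ _)
      · rw [Category.id_comp, Category.assoc, Category.assoc, ← pullback.condition, ← Category.assoc (ψ g f h e hsq U),
          ψ_fst, pullback.lift_fst_assoc]

/-- Sections on `U ×_X Y` as sections on `U ×_S T`. -/
def secsU {F : EtDesc.Sh T} (U : X.Etale) (σ : Secs (((EtCoh.bc h).obj U).hom ≫ e) F) :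
    Secs (pullback.snd (U.hom ≫ f) g) F :=
  σ.res (ψ g f h e hsq U) (ψ_snd g f h e hsq U)

theorem secsU_injective {F : EtDesc.Sh T} (U : X.Etale) : Function.Injective (secsU g f h e hsq (F := F) U) :=
  haveI : Surjective (ψ g f h e hsq U) := ⟨(ψ g f h e hsq U).homeomorph.surjective⟩
  res_injective (ψ_snd g f h e hsq U)

theorem secsU_res {F : EtDesc.Sh T} {U U' : X.Etale} (r : U' ⟶ U)
    (σ : Secs (((EtCoh.bc h).obj U).hom ≫ e) F)
    (e₁ : ((EtCoh.bc h).map r).left ≫ ((EtCoh.bc h).obj U).hom ≫ e = ((EtCoh.bc h).obj U').hom ≫ e) :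
    secsU g f h e hsq U' (σ.res ((EtCoh.bc h).map r).left e₁) =
      resT g r.left ((Category.assoc _ _ _).symm.trans (congrArg (· ≫ f) (hom_left r))) (secsU g f h e hsq U σ) := by
  refine (Secs.res_comp _ _ _ _ σ).trans ((Secs.res_congr ?_ _ _ σ).trans (Secs.res_comp _ _ _ _ σ).symm)
  apply pullback.hom_ext
  · refine (Category.assoc _ _ _).trans ((congrArg (_ ≫ ·) (EtCoh.isPullback_bc_map h r).w).trans ?_)
    refine (Category.assoc _ _ _).symm.trans ((congrArg (· ≫ r.left) (ψ_fst g f h e hsq U')).trans ?_)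
    exact ((Category.assoc _ _ _).trans ((congrArg (_ ≫ ·) (ψ_fst g f h e hsq U)).trans (bmap_fst g _ _))).symm
  · refine (Category.assoc _ _ _).trans ((congrArg (_ ≫ ·) (hom_left ((EtCoh.bc h).map r))).trans ?_)
    refine Eq.trans ?_ (Category.assoc _ _ _).symm
    refine (pullback.lift_snd _ _ _).trans (Eq.trans ?_ (congrArg (_ ≫ ·) (pullback.lift_snd _ _ _)).symm)
    apply hsq.hom_ext
    · exact (hsq.lift_fst _ _ _).trans ((Category.assoc _ _ _).trans
        ((congrArg (_ ≫ ·) (hsq.lift_fst _ _ _)).trans (bmap_snd g _ _))).symm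
    · refine (hsq.lift_snd _ _ _).trans (Eq.trans ?_ ((Category.assoc _ _ _).trans (congrArg (_ ≫ ·) (hsq.lift_snd _ _ _))).symm)
      refine Eq.trans ?_ (bmap_fst_assoc g _ _ _).symm
      exact congrArg (pullback.fst _ g ≫ ·) (hom_left r).symm

theorem ψ_bcθ (W : S.Etale) :
    ψ g f h e hsq ((EtCoh.bc f).obj W) ≫ (bcθ g f h e hsq.w W).left ≫ pullback.fst ((EtCoh.bc g).obj W).hom e =
      bmap g (pullback.fst W.hom f) (bc_cond f W) := by
  apply pullback.hom_ext
  · refine Eq.trans ?_ (bmap_fst g _ _).symm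
    refine ((Category.assoc _ _ _).trans (congrArg (_ ≫ ·) (Category.assoc _ _ _))).trans ?_
    exact (congrArg (_ ≫ ·) (bcθ_left_fst_fst g f h e hsq.w W)).trans
      ((Category.assoc _ _ _).symm.trans (congrArg (· ≫ pullback.fst W.hom f) (ψ_fst g f h e hsq _)))
  · refine Eq.trans ?_ (bmap_snd g _ _).symm
    refine ((Category.assoc _ _ _).trans (congrArg (_ ≫ ·) (Category.assoc _ _ _))).trans ?_
    have hw : pullback.fst ((EtCoh.bc g).obj W).hom e ≫ ((EtCoh.bc g).obj W).hom =
        ((EtCoh.bc e).obj ((EtCoh.bc g).obj W)).hom ≫ e := pullback.condition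
    refine (congrArg (fun k => ψ g f h e hsq _ ≫ (bcθ g f h e hsq.w W).left ≫ k) hw).trans ?_
    refine (congrArg (_ ≫ ·) ((Category.assoc _ _ _).symm.trans
      (congrArg (· ≫ e) (hom_left (bcθ g f h e hsq.w W))))).trans ?_
    exact ψ_snd g f h e hsq _

variable {Ω : Type u} [Field Ω] [IsSepClosed Ω] {ξ : Spec (CommRingCat.of Ω) ⟶ X}

/-- The base change map for sheaves of sets is bijective on the stalk. -/
theorem baseChange0Sh_stalk_bijective (F : EtDesc.Sh T) (d : KeyData g f F ξ) :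
    Function.Bijective ((stalkSh ξ).map (EtBC.baseChange0Sh g f h e hsq.w F)) := by
  let inv₀ : ∀ W : S.Etale, Secs (pullback.snd W.hom g) F → EtDesc.sect F ((EtCoh.bc g).obj W) :=
    fun W s => ((secOf_bijective F ((EtCoh.bc g).obj W)).2 s).choose
  have hinv : ∀ W s, secOf F (inv₀ W s) = s := fun W s =>
    ((secOf_bijective F ((EtCoh.bc g).obj W)).2 s).choose_spec
  refine stalk_bijective g f (F := F) (EtBC.baseChange0Sh g f h e hsq.w F)
    (fun U σ => secsU g f h e hsq U (toSecs e F σ))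
    (fun W s => ((EtDesc.adjSh f).unit.app ((EtDesc.pushSh g).obj F)).hom.app (op W) (inv₀ W s))
    d (fun U => (secsU_injective g f h e hsq U).comp (toSecs_injective e F _)) (fun r σ => ?_) (fun {W W'} r s => ?_)
    (fun x => ?_) (fun W s => ?_)
  · exact (congrArg (secsU g f h e hsq _) (toSecs_map e F ((EtCoh.bc h).map r) σ)).trans
      (secsU_res g f h e hsq r _ _)
  · refine Eq.trans ?_ (NatTrans.naturality_apply ((EtDesc.adjSh f).unit.app ((EtDesc.pushSh g).obj F)).hom r.op (inv₀ W s))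
    refine congrArg _ ((secOf_injective F _) ((hinv W' _).trans ?_))
    refine Eq.trans ?_ (secOf_map F ((EtCoh.bc g).map r) (inv₀ W s)).symm
    rw [hinv]
    refine Secs.res_congr (pullback.hom_ext ?_ ?_) _ _ s
    · exact (bmap_fst g _ _).trans (EtCoh.isPullback_bc_map g r).w.symm
    · exact (bmap_snd g _ _).trans (hom_left ((EtCoh.bc g).map r)).symm
  · obtain ⟨W, l, hl, t, ht⟩ := exists_gSh ((pullStalkShIso ξ f).hom.app ((EtDesc.pushSh g).obj F) x)
    refine ⟨W, l, hl, secOf F t, ?_⟩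
    rw [show inv₀ W (secOf F t) = t from secOf_injective F _ (hinv W _)]
    have hfl : (fiberBcIso ξ f).inv.app W (fib (ξ ≫ f) l hl) =
        fib ξ (pullback.lift l ξ hl) (pullback.lift_snd _ _ _) :=
      Over.OverMorphism.ext (pullback.hom_ext ((pullback.lift_fst _ _ _).trans (pullback.lift_fst _ _ _).symm)
        ((pullback.lift_snd _ _ _).trans (pullback.lift_snd _ _ _).symm))
    have := germ_unitSh f ξ ((EtDesc.pushSh g).obj F) (fib (ξ ≫ f) l hl) t
    rw [hfl] at this
    refine this.trans ((congrArg ((pullStalkShIso ξ f).inv.app _) ht).trans ?_)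
    exact pullStalkSh_inv_hom f ξ _ x
  · refine (congrArg (fun y => secsU g f h e hsq _ (toSecs e F y))
      (baseChange0Sh_app_unit g f h e hsq.w F W (inv₀ W s))).trans ?_
    refine (congrArg (secsU g f h e hsq _) ((toSecs_map e F _ _).trans
      (congrArg (Secs.res _ _) ((toSecs_unit e F _).trans ((ofSect_eq F _ _ _).trans (congrArg (Secs.res _ _) (hinv W s))))))).trans ?_
    refine (congrArg (fun t => Secs.res (ψ g f h e hsq _) _ t) (Secs.res_comp _ _ _ _ s)).trans ?_
    exact (Secs.res_comp _ _ _ _ s).trans (Secs.res_congr (ψ_bcθ g f h e hsq W) _ _ s)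

/-- The base change map for abelian sheaves is bijective on the stalk of underlying sets. -/
theorem baseChange0_stalk_bijective (F : EtCoh.Ab T) (d : KeyData g f (forgetSh F) ξ) :
    Function.Bijective ((stalkSh ξ).map ((sheafCompose X.smallEtaleTopology (forget AddCommGrpCat.{u + 1})).map
      (EtCoh.baseChange0 g f h e hsq.w F))) := by
  let inv₀ : ∀ W : S.Etale, Secs (pullback.snd W.hom g) (forgetSh F) → EtCoh.sect F ((EtCoh.bc g).obj W) :=
    fun W s => ((secOf_bijective (forgetSh F) ((EtCoh.bc g).obj W)).2 s).choose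
  have hinv : ∀ W s, secOf (forgetSh F) (inv₀ W s) = s := fun W s =>
    ((secOf_bijective (forgetSh F) ((EtCoh.bc g).obj W)).2 s).choose_spec
  refine stalk_bijective g f (F := forgetSh F)
    ((sheafCompose X.smallEtaleTopology (forget AddCommGrpCat.{u + 1})).map (EtCoh.baseChange0 g f h e hsq.w F))
    (fun U σ => secsU g f h e hsq U (toSecsAb e F σ))
    (fun W s => ((EtCoh.pullPushAdj f).unit.app ((EtCoh.push g).obj F)).hom.app (op W) (inv₀ W s))
    d (fun U => (secsU_injective g f h e hsq U).comp (toSecsAb_bijective e F _).1) (fun r σ => ?_) (fun {W W'} r s => ?_)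
    (fun x => ?_) (fun W s => ?_)
  · exact (congrArg (secsU g f h e hsq _) (toSecsAb_map e F ((EtCoh.bc h).map r) σ)).trans
      (secsU_res g f h e hsq r _ _)
  · refine Eq.trans ?_ (NatTrans.naturality_apply ((EtCoh.pullPushAdj f).unit.app ((EtCoh.push g).obj F)).hom r.op (inv₀ W s))
    refine congrArg _ ((secOf_injective (forgetSh F) _) ((hinv W' _).trans ?_))
    refine Eq.trans ?_ (secOf_map (forgetSh F) ((EtCoh.bc g).map r) (inv₀ W s)).symm
    rw [hinv]
    refine Secs.res_congr (pullback.hom_ext ?_ ?_) _ _ s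
    · exact (bmap_fst g _ _).trans (EtCoh.isPullback_bc_map g r).w.symm
    · exact (bmap_snd g _ _).trans (hom_left ((EtCoh.bc g).map r)).symm
  · obtain ⟨W, t, s, hs⟩ := exists_germ (ξ ≫ f) ((EtCoh.push g).obj F)
      ((pullStalkIso ξ f).hom.app _ (stalkForget ξ ((EtCoh.pull f).obj ((EtCoh.push g).obj F)) x))
    let tl : Spec (CommRingCat.of Ω) ⟶ W.left := t.left
    have htl : tl ≫ W.hom = ξ ≫ f := Over.w t
    refine ⟨W, tl, htl, secOf (forgetSh F) s, (stalkForget_bijective ξ _).1 ?_⟩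
    rw [show inv₀ W (secOf (forgetSh F) s) = s from secOf_injective (forgetSh F) _ (hinv W _)]
    have hfl : (fiberBcIso ξ f).inv.app W t = fib ξ (pullback.lift tl ξ htl) (pullback.lift_snd _ _ _) :=
      Over.OverMorphism.ext (pullback.hom_ext ((pullback.lift_fst _ _ _).trans (pullback.lift_fst _ _ _).symm)
        ((pullback.lift_snd _ _ _).trans (pullback.lift_snd _ _ _).symm))
    have := germ_unit ξ f ((EtCoh.push g).obj F) t s
    rw [hfl] at this
    refine (stalkForget_gSh ξ _ _ _ _).trans (this.trans ((congrArg ((pullStalkIso ξ f).inv.app _) hs).trans ?_))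
    exact ConcreteCategory.congr_hom (Iso.hom_inv_id_app (pullStalkIso ξ f) ((EtCoh.push g).obj F)) _
  · refine (congrArg (fun y => secsU g f h e hsq _ (toSecsAb e F y))
      (baseChange0_app_unit g f h e hsq.w F W (inv₀ W s))).trans ?_
    refine (congrArg (secsU g f h e hsq _) ((toSecsAb_map e F _ _).trans
      (congrArg (Secs.res _ _) ((toSecsAb_unit e F _).trans ((ofSect_eq (forgetSh F) _ _ _).trans
        (congrArg (Secs.res _ _) (hinv W s))))))).trans ?_
    refine (congrArg (fun t => Secs.res (ψ g f h e hsq _) _ t) (Secs.res_comp _ _ _ _ s)).trans ?_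
    exact (Secs.res_comp _ _ _ _ s).trans (Secs.res_congr (ψ_bcθ g f h e hsq W) _ _ s)

end concrete

/-- Morphisms whose maps of strict localizations are faithfully flat with connected geometric fibres. -/
def LocConnected : Prop :=
  ∀ x : X, ∃ (Ω : Type u) (_ : Field Ω) (_ : IsSepClosed Ω) (ξ : Spec (CommRingCat.of Ω) ⟶ X)
    (_ : ξ.base default = x) (NX : ProNbhd ξ) (NS : ProNbhd (ξ ≫ f)) (a : NX.c.pt ⟶ NS.c.pt), LocData f NX NS a

theorem isIso_baseChange0Sh_of_locConnected [QuasiCompact g] [QuasiSeparated g] (hf : LocConnected f)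
    (h : Y ⟶ X) (e : Y ⟶ T) (hsq : IsPullback e h g f) (F : EtDesc.Sh T) :
    IsIso (EtBC.baseChange0Sh g f h e hsq.w F) :=
  isIso_of_stalksSh _ fun x => by
    obtain ⟨Ω, _, _, ξ, hx, NX, NS, a, d⟩ := hf x
    exact ⟨Ω, inferInstance, inferInstance, ξ, hx, baseChange0Sh_stalk_bijective g f h e hsq F d.keyData⟩

theorem isIso_baseChange0_of_locConnected [QuasiCompact g] [QuasiSeparated g] (hf : LocConnected f)
    (h : Y ⟶ X) (e : Y ⟶ T) (hsq : IsPullback e h g f) (F : EtCoh.Ab T) :
    IsIso (EtCoh.baseChange0 g f h e hsq.w F) := by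
  haveI : IsIso ((sheafCompose X.smallEtaleTopology (forget AddCommGrpCat.{u + 1})).map
      (EtCoh.baseChange0 g f h e hsq.w F)) := isIso_of_stalksSh _ fun x => by
    obtain ⟨Ω, _, _, ξ, hx, NX, NS, a, d⟩ := hf x
    exact ⟨Ω, inferInstance, inferInstance, ξ, hx, baseChange0_stalk_bijective g f h e hsq F d.keyData⟩
  exact isIso_of_reflects_iso (EtCoh.baseChange0 g f h e hsq.w F)
    (sheafCompose X.smallEtaleTopology (forget AddCommGrpCat.{u + 1}))

end GrothLib.EtSec
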