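import Groth.Agent.Lib.EtSec.AbCompare
import Groth.Agent.Lib.EtSec.Global

/-!
# The group of relative sections of an abelian sheaf
-/

set_option autoImplicit false
universe u

open CategoryTheory CategoryTheory.Limits AlgebraicGeometry Opposite
open GrothLib.EtSite

set_option backward.isDefEq.respectTransparency.types false

noncomputable section

namespace GrothLib.EtSec

variable {S Z : Scheme.{u}} {a : Z ⟶ S} {F : EtCoh.Ab S}

/-- The values of a relative section in the stalks. -/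
def valAb (σ : Secs a (forgetSh F)) (Ω : Type u) [Field Ω] [IsSepClosed Ω] (p : Spec (CommRingCat.of Ω) ⟶ Z)
    (η : Spec (CommRingCat.of Ω) ⟶ S) (h : p ≫ a = η) : (EtCoh.stalk η).obj F :=
  stalkForget η F (σ.val Ω p η h)

theorem ext_valAb {σ τ : Secs a (forgetSh F)}
    (h : ∀ (Ω : Type u) [Field Ω] [IsSepClosed Ω] (p : Spec (CommRingCat.of Ω) ⟶ Z)
      (η : Spec (CommRingCat.of Ω) ⟶ S) (hp : p ≫ a = η), valAb σ Ω p η hp = valAb τ Ω p η hp) : σ = τ :=
  Secs.ext' fun Ω _ _ p η hp => (stalkForget_bijective η F).1 (h Ω p η hp)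

theorem valAb_ofSect {W : S.Etale} (m : Z ⟶ W.left) (hm : m ≫ W.hom = a) (t : EtCoh.sect F W)
    (Ω : Type u) [Field Ω] [IsSepClosed Ω] (p : Spec (CommRingCat.of Ω) ⟶ Z)
    (η : Spec (CommRingCat.of Ω) ⟶ S) (h : p ≫ a = η) :
    valAb (Secs.ofSect (F := forgetSh F) m hm t) Ω p η h =
      germ η F (fib η (p ≫ m) ((Category.assoc p m W.hom).trans ((congrArg (p ≫ ·) hm).trans h))) t :=
  stalkForget_gSh η F _ _ t

/-- Two relative sections have local descriptions on a common etale scheme over the base. -/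
theorem exists_common {G : EtDesc.Sh S} (σ τ : Secs a G) (z : Z) :
    ∃ (V : Scheme.{u}) (v : V ⟶ Z) (_ : Etale v) (z' : V) (W : S.Etale) (m : V ⟶ W.left)
      (hm : m ≫ W.hom = v ≫ a) (t t' : EtDesc.sect G W), v.base z' = z ∧
      σ.res v rfl = Secs.ofSect m hm t ∧ τ.res v rfl = Secs.ofSect m hm t' := by
  obtain ⟨V₁, v₁, hv₁, z₁, W₁, m₁, hm₁, t₁, hz₁, ht₁⟩ := σ.loc z
  obtain ⟨V₂, v₂, hv₂, z₂, W₂, m₂, hm₂, t₂, hz₂, ht₂⟩ := τ.loc z
  let w₁ : W₁.left ⟶ S := W₁.hom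
  let w₂ : W₂.left ⟶ S := W₂.hom
  haveI : Etale w₁ := W₁.prop
  haveI : Etale w₂ := W₂.prop
  haveI : Etale (pullback.fst w₁ w₂) := MorphismProperty.pullback_fst _ _ ‹Etale w₂›
  let W : S.Etale := Scheme.Etale.mk (pullback.fst w₁ w₂ ≫ w₁)
  let r₁ : W ⟶ W₁ := MorphismProperty.Over.homMk (pullback.fst w₁ w₂) rfl
  let r₂ : W ⟶ W₂ := MorphismProperty.Over.homMk (pullback.snd w₁ w₂) pullback.condition.symm
  obtain ⟨z₀, h₀, -⟩ := Scheme.Pullback.exists_preimage_pullback (f := v₁) (g := v₂) z₁ z₂ (hz₁.trans hz₂.symm)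
  let v : pullback v₁ v₂ ⟶ Z := pullback.fst v₁ v₂ ≫ v₁
  haveI : Etale (pullback.fst v₁ v₂) := MorphismProperty.pullback_fst _ _ hv₂
  have hm₁' : m₁ ≫ w₁ = v₁ ≫ a := hm₁
  have hm₂' : m₂ ≫ w₂ = v₂ ≫ a := hm₂
  let m₀ : pullback v₁ v₂ ⟶ pullback w₁ w₂ := pullback.lift (pullback.fst v₁ v₂ ≫ m₁) (pullback.snd v₁ v₂ ≫ m₂) (by
    rw [Category.assoc, Category.assoc, hm₁', hm₂', pullback.condition_assoc])
  let m : pullback v₁ v₂ ⟶ W.left := m₀
  have hm : m ≫ W.hom = v ≫ a := by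
    show m₀ ≫ pullback.fst w₁ w₂ ≫ w₁ = _
    rw [pullback.lift_fst_assoc, Category.assoc, hm₁', ← Category.assoc]
  refine ⟨_, v, inferInstance, z₀, W, m, hm, G.obj.map r₁.op t₁, G.obj.map r₂.op t₂, ?_,
    Secs.ext' fun Ω' _ _ q η' hq => ?_, Secs.ext' fun Ω' _ _ q η' hq => ?_⟩
  · show v₁.base ((pullback.fst v₁ v₂).base z₀) = z
    rw [h₀]; exact hz₁
  · have h1 : ((q ≫ pullback.fst v₁ v₂) ≫ v₁) ≫ a = η' := by rw [← hq]; simp [v]
    refine (σ.val_congr (Category.assoc q _ v₁).symm _ h1).trans ((ht₁ Ω' _ η' h1).trans ?_)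
    refine Eq.trans ?_ (gSh_map r₁ (q ≫ m) ((Category.assoc q m W.hom).trans ((congrArg (q ≫ ·) hm).trans hq)) ?_ t₁).symm
    · exact gSh_congr ((Category.assoc q _ m₁).trans ((congrArg (q ≫ ·) (pullback.lift_fst _ _ _).symm).trans
        (Category.assoc q m _).symm)) _ _ t₁
    · show ((q ≫ m₀) ≫ pullback.fst w₁ w₂) ≫ w₁ = η'
      rw [Category.assoc, Category.assoc]; exact (congrArg (q ≫ ·) hm).trans hq
  · have h1 : ((q ≫ pullback.snd v₁ v₂) ≫ v₂) ≫ a = η' := by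
      rw [← hq]; simp [v, pullback.condition_assoc]
    refine (τ.val_congr (show q ≫ v = (q ≫ pullback.snd v₁ v₂) ≫ v₂ by simp [v, pullback.condition]) _ h1).trans
      ((ht₂ Ω' _ η' h1).trans ?_)
    refine Eq.trans ?_ (gSh_map r₂ (q ≫ m) ((Category.assoc q m W.hom).trans ((congrArg (q ≫ ·) hm).trans hq)) ?_ t₂).symm
    · exact gSh_congr ((Category.assoc q _ m₂).trans ((congrArg (q ≫ ·) (pullback.lift_snd _ _ _).symm).trans
        (Category.assoc q m _).symm)) _ _ t₂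
    · show ((q ≫ m₀) ≫ pullback.snd w₁ w₂) ≫ w₂ = η'
      rw [Category.assoc, Category.assoc, ← pullback.condition]; exact (congrArg (q ≫ ·) hm).trans hq

/-- Locally given by a section, with values in the stalks. -/
theorem exists_secs (g : ∀ (Ω : Type u) [Field Ω] [IsSepClosed Ω] (p : Spec (CommRingCat.of Ω) ⟶ Z)
      (η : Spec (CommRingCat.of Ω) ⟶ S), p ≫ a = η → (EtCoh.stalk η).obj F)
    (hg : ∀ z : Z, ∃ (V : Scheme.{u}) (v : V ⟶ Z) (_ : Etale v) (z' : V) (W : S.Etale) (m : V ⟶ W.left)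
      (hm : m ≫ W.hom = v ≫ a) (t : EtCoh.sect F W), v.base z' = z ∧
        ∀ (Ω : Type u) [Field Ω] [IsSepClosed Ω] (q : Spec (CommRingCat.of Ω) ⟶ V)
          (η : Spec (CommRingCat.of Ω) ⟶ S) (h : (q ≫ v) ≫ a = η),
          g Ω (q ≫ v) η h = germ η F (fib η (q ≫ m)
            ((Category.assoc q m W.hom).trans ((congrArg (q ≫ ·) hm).trans ((Category.assoc q v a).symm.trans h)))) t) :
    ∃ σ : Secs a (forgetSh F), ∀ (Ω : Type u) [Field Ω] [IsSepClosed Ω] (p : Spec (CommRingCat.of Ω) ⟶ Z)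
      (η : Spec (CommRingCat.of Ω) ⟶ S) (h : p ≫ a = η), valAb σ Ω p η h = g Ω p η h := by
  let val : PtFun a (forgetSh F) := fun Ω _ _ p η h =>
    (Equiv.ofBijective _ (stalkForget_bijective η F)).symm (g Ω p η h)
  have hval : ∀ (Ω : Type u) [Field Ω] [IsSepClosed Ω] (p : Spec (CommRingCat.of Ω) ⟶ Z)
      (η : Spec (CommRingCat.of Ω) ⟶ S) (h : p ≫ a = η), stalkForget η F (val Ω p η h) = g Ω p η h :=
    fun Ω _ _ p η h => (Equiv.ofBijective _ (stalkForget_bijective η F)).apply_symm_apply _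
  refine ⟨⟨val, fun z => ?_⟩, hval⟩
  obtain ⟨V, v, hv, z', W, m, hm, t, hz, ht⟩ := hg z
  refine ⟨V, v, hv, z', W, m, hm, t, hz, fun Ω _ _ q η h => (stalkForget_bijective η F).1 ?_⟩
  exact (hval Ω (q ≫ v) η h).trans ((ht Ω q η h).trans (stalkForget_gSh η F _ _ t).symm)

theorem exists_add (σ τ : Secs a (forgetSh F)) :
    ∃ ρ : Secs a (forgetSh F), ∀ (Ω : Type u) [Field Ω] [IsSepClosed Ω] (p : Spec (CommRingCat.of Ω) ⟶ Z)
      (η : Spec (CommRingCat.of Ω) ⟶ S) (h : p ≫ a = η), valAb ρ Ω p η h = valAb σ Ω p η h + valAb τ Ω p η h := by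
  refine exists_secs (fun Ω _ _ p η h => valAb σ Ω p η h + valAb τ Ω p η h) fun z => ?_
  obtain ⟨V, v, hv, z', W, m, hm, t, t', hz, h₁, h₂⟩ := exists_common σ τ z
  refine ⟨V, v, hv, z', W, m, hm, (show EtCoh.sect F W from t) + (show EtCoh.sect F W from t'), hz,
    fun Ω _ _ q η h => ?_⟩
  have h' := (Category.assoc q v a).symm.trans h
  have a₁ : valAb σ Ω (q ≫ v) η h = _ :=
    (congrArg (fun r : Secs (v ≫ a) (forgetSh F) => valAb r Ω q η h') h₁).trans (valAb_ofSect m hm t Ω q η h')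
  have a₂ : valAb τ Ω (q ≫ v) η h = _ :=
    (congrArg (fun r : Secs (v ≫ a) (forgetSh F) => valAb r Ω q η h') h₂).trans (valAb_ofSect m hm t' Ω q η h')
  rw [map_add]
  exact congrArg₂ (· + ·) a₁ a₂

theorem exists_neg (σ : Secs a (forgetSh F)) :
    ∃ ρ : Secs a (forgetSh F), ∀ (Ω : Type u) [Field Ω] [IsSepClosed Ω] (p : Spec (CommRingCat.of Ω) ⟶ Z)
      (η : Spec (CommRingCat.of Ω) ⟶ S) (h : p ≫ a = η), valAb ρ Ω p η h = - valAb σ Ω p η h := by
  refine exists_secs (fun Ω _ _ p η h => - valAb σ Ω p η h) fun z => ?_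
  obtain ⟨V, v, hv, z', W, m, hm, t, hz, ht⟩ := σ.loc z
  refine ⟨V, v, hv, z', W, m, hm, - (show EtCoh.sect F W from t), hz, fun Ω _ _ q η h => ?_⟩
  rw [map_neg]
  exact congrArg Neg.neg ((congrArg (stalkForget η F) (ht Ω q η h)).trans (stalkForget_gSh η F _ _ t))

theorem exists_zero (a : Z ⟶ S) (F : EtCoh.Ab S) :
    ∃ ρ : Secs a (forgetSh F), ∀ (Ω : Type u) [Field Ω] [IsSepClosed Ω] (p : Spec (CommRingCat.of Ω) ⟶ Z)
      (η : Spec (CommRingCat.of Ω) ⟶ S) (h : p ≫ a = η), valAb ρ Ω p η h = 0 := by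
  refine exists_secs (fun Ω _ _ p η h => 0) fun z => ?_
  exact ⟨Z, 𝟙 Z, inferInstance, z, EtCoh.top S, a, (Category.comp_id a).trans (Category.id_comp a).symm, 0, rfl,
    fun Ω _ _ q η h => (map_zero _).symm⟩

instance : Zero (Secs a (forgetSh F)) := ⟨(exists_zero a F).choose⟩
instance : Add (Secs a (forgetSh F)) := ⟨fun σ τ => (exists_add σ τ).choose⟩
instance : Neg (Secs a (forgetSh F)) := ⟨fun σ => (exists_neg σ).choose⟩

variable (Ω : Type u) [Field Ω] [IsSepClosed Ω] (p : Spec (CommRingCat.of Ω) ⟶ Z)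
  (η : Spec (CommRingCat.of Ω) ⟶ S) (h : p ≫ a = η)

@[simp]
theorem valAb_zero : valAb (0 : Secs a (forgetSh F)) Ω p η h = 0 := (exists_zero a F).choose_spec Ω p η h

@[simp]
theorem valAb_add (σ τ : Secs a (forgetSh F)) : valAb (σ + τ) Ω p η h = valAb σ Ω p η h + valAb τ Ω p η h :=
  (exists_add σ τ).choose_spec Ω p η h

@[simp]
theorem valAb_neg (σ : Secs a (forgetSh F)) : valAb (-σ) Ω p η h = - valAb σ Ω p η h :=
  (exists_neg σ).choose_spec Ω p η h

instance : AddCommGroup (Secs a (forgetSh F)) where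
  nsmul := nsmulRec
  zsmul := zsmulRec
  add_assoc σ τ ρ := ext_valAb fun Ω _ _ p η h => by simp only [valAb_add]; exact add_assoc _ _ _
  zero_add σ := ext_valAb fun Ω _ _ p η h => by simp only [valAb_add, valAb_zero]; exact zero_add _
  add_zero σ := ext_valAb fun Ω _ _ p η h => by simp only [valAb_add, valAb_zero]; exact add_zero _
  add_comm σ τ := ext_valAb fun Ω _ _ p η h => by simp only [valAb_add]; exact add_comm _ _
  neg_add_cancel σ := ext_valAb fun Ω _ _ p η h => by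
    simp only [valAb_add, valAb_neg, valAb_zero]; exact neg_add_cancel _

theorem res_add {Z' : Scheme.{u}} (b : Z' ⟶ Z) {a' : Z' ⟶ S} (e : b ≫ a = a') (σ τ : Secs a (forgetSh F)) :
    (σ + τ).res b e = σ.res b e + τ.res b e :=
  ext_valAb fun Ω _ _ p η h => (valAb_add Ω (p ≫ b) η _ σ τ).trans (valAb_add Ω p η h (σ.res b e) (τ.res b e)).symm

theorem ofSect_add {W : S.Etale} (m : Z ⟶ W.left) (hm : m ≫ W.hom = a) (t t' : EtCoh.sect F W) :
    Secs.ofSect (F := forgetSh F) m hm (t + t' : EtCoh.sect F W) =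
      Secs.ofSect (F := forgetSh F) m hm t + Secs.ofSect (F := forgetSh F) m hm t' :=
  ext_valAb fun Ω _ _ p η h => by
    rw [valAb_add, valAb_ofSect, valAb_ofSect, valAb_ofSect, map_add]

theorem secOf_add {U : S.Etale} (t t' : EtCoh.sect F U) :
    secOf (forgetSh F) (U := U) (t + t' : EtCoh.sect F U) =
      secOf (forgetSh F) (U := U) t + secOf (forgetSh F) (U := U) t' :=
  ofSect_add _ _ t t'

section pull

variable {X : Scheme.{u}} (f : X ⟶ S) (F)

theorem valAb_toSecsAb {U : X.Etale} (σ : EtCoh.sect ((EtCoh.pull f).obj F) U)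
    (p : Spec (CommRingCat.of Ω) ⟶ U.left) {ξ : Spec (CommRingCat.of Ω) ⟶ X} (hp : p ≫ U.hom = ξ)
    (h : p ≫ U.hom ≫ f = ξ ≫ f) :
    valAb (toSecsAb f F σ) Ω p (ξ ≫ f) h =
      (pullStalkIso ξ f).hom.app F (germ ξ ((EtCoh.pull f).obj F) (fib ξ p hp) σ) := by
  obtain ⟨σ₀, rfl⟩ := (cmp_app_bijective f F U).2 σ
  rw [toSecsAb_cmp]
  show stalkForget (ξ ≫ f) F (pullVal f (forgetSh F) σ₀ Ω p (ξ ≫ f) h) = _
  rw [pullVal_eq f (forgetSh F) σ₀ p hp h]
  have key := stalk_cmp f F ξ ((pullStalkShIso ξ f).hom.app (forgetSh F) (gSh _ p hp σ₀))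
  have e1 : (pullStalkShIso ξ f).inv.app (forgetSh F) ((pullStalkShIso ξ f).hom.app (forgetSh F)
      (gSh ((EtDesc.pullSh f).obj (forgetSh F)) p hp σ₀)) = gSh ((EtDesc.pullSh f).obj (forgetSh F)) p hp σ₀ :=
    ConcreteCategory.congr_hom (Iso.hom_inv_id_app (pullStalkShIso ξ f) (forgetSh F)) _
  rw [e1] at key
  have e2 : stalkForget ξ ((EtCoh.pull f).obj F) ((stalkSh ξ).map (cmp f F)
      (gSh ((EtDesc.pullSh f).obj (forgetSh F)) p hp σ₀)) =
      germ ξ ((EtCoh.pull f).obj F) (fib ξ p hp) ((cmp f F).hom.app (op U) σ₀) :=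
    (congrArg (stalkForget ξ _) ((Scheme.pointSmallEtale ξ).toPresheafFiber_naturality_apply (cmp f F).hom _ _ _)).trans
      (stalkForget_gSh ξ _ p hp _)
  refine Eq.trans ?_ (congrArg ((pullStalkIso ξ f).hom.app F) (key.symm.trans e2))
  exact (ConcreteCategory.congr_hom (Iso.inv_hom_id_app (pullStalkIso ξ f) F) _).symm

theorem toSecsAb_add {U : X.Etale} (σ τ : EtCoh.sect ((EtCoh.pull f).obj F) U) :
    toSecsAb f F (σ + τ) = toSecsAb f F σ + toSecsAb f F τ :=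
  ext_valAb fun Ω _ _ p η h => by
    obtain rfl := (Category.assoc p U.hom f).trans h
    rw [valAb_add, valAb_toSecsAb (Ω := Ω) (F := F) f _ p rfl h, valAb_toSecsAb (Ω := Ω) (F := F) f _ p rfl h,
      valAb_toSecsAb (Ω := Ω) (F := F) f _ p rfl h, map_add, map_add]

end pull

theorem stalkForget_naturality {η : Spec (CommRingCat.of Ω) ⟶ S} {G : EtCoh.Ab S} (α : F ⟶ G)
    (x : (stalkSh η).obj (forgetSh F)) :
    stalkForget η G ((stalkSh η).map
      ((sheafCompose S.smallEtaleTopology (forget AddCommGrpCat.{u + 1})).map α) x) =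
      (EtCoh.stalk η).map α (stalkForget η F x) := by
  obtain ⟨W, l, hl, t, rfl⟩ := exists_gSh x
  refine (congrArg (stalkForget η G) ((Scheme.pointSmallEtale η).toPresheafFiber_naturality_apply
    ((sheafCompose S.smallEtaleTopology (forget AddCommGrpCat.{u + 1})).map α).hom _ _ _)).trans ?_
  refine (stalkForget_gSh η G l hl _).trans ?_
  refine Eq.trans ?_ (congrArg ((EtCoh.stalk η).map α) (stalkForget_gSh η F l hl t)).symm
  exact ((Scheme.pointSmallEtale η).toPresheafFiber_naturality_apply α.hom W (fib η l hl) t).symm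

end GrothLib.EtSec
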