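import Mathlib.AlgebraicGeometry.Morphisms.Flat
import Mathlib.AlgebraicGeometry.Morphisms.UniversallyOpen
import Mathlib.AlgebraicGeometry.Morphisms.UnderlyingMap
import Mathlib.RingTheory.Spectrum.Prime.Topology

/-!
# Universally generalizing morphisms
-/

universe u

open CategoryTheory CategoryTheory.Limits AlgebraicGeometry Opposite

set_option backward.isDefEq.respectTransparency.types false

namespace GrothLib.EtSec

variable {X Y Z : Scheme.{u}}

/-- All base changes lift generalizations. -/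
def UGen (f : X ⟶ Y) : Prop := (topologically @GeneralizingMap).universally f

theorem uGen_of_flat (f : X ⟶ Y) [Flat f] : UGen f := fun _ _ _ _ f' h => by
  haveI : Flat f' := MorphismProperty.of_isPullback h.flip ‹Flat f›
  exact Flat.generalizingMap f'

theorem UGen.comp {f : X ⟶ Y} {g : Y ⟶ Z} (hf : UGen f) (hg : UGen g) : UGen (f ≫ g) := by
  haveI : (topologically @GeneralizingMap).IsStableUnderComposition :=
    ⟨fun a b ha hb => GeneralizingMap.comp (f := a) (g := b) ha hb⟩
  exact MorphismProperty.comp_mem (topologically @GeneralizingMap).universally f g hf hg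

theorem UGen.of_isPullback {X' Y' : Scheme.{u}} {f : X ⟶ Y} (hf : UGen f) {i₁ : X' ⟶ X} {i₂ : Y' ⟶ Y}
    {f' : X' ⟶ Y'} (h : IsPullback i₁ f' f i₂) : UGen f' :=
  MorphismProperty.of_isPullback (P := (topologically @GeneralizingMap).universally) h hf

theorem UGen.generalizingMap {f : X ⟶ Y} (hf : UGen f) : GeneralizingMap f.base :=
  MorphismProperty.universally_le _ _ hf

/-- Quasi-compact surjective universally generalizing morphisms are quotient maps. -/
theorem UGen.isQuotientMap {X Y : Scheme.{u}} {f : X ⟶ Y} (hf : UGen f) [QuasiCompact f] [Surjective f] :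
    Topology.IsQuotientMap f := by
  rw [Topology.isQuotientMap_iff]
  refine ⟨.of_isOpen_preimage_iff_isOpen fun s ↦
    ⟨fun hs ↦ ?_, fun hs ↦ hs.preimage f.continuous⟩, f.surjective⟩
  wlog hY : ∃ R, Y = Spec R
  · let 𝒰 := Y.affineCover
    rw [𝒰.isOpenCover_opensRange.isOpen_iff_inter]
    intro i
    rw [Scheme.Hom.coe_opensRange, ← Set.image_preimage_eq_inter_range]
    apply (𝒰.f i).isOpenEmbedding.isOpenMap
    refine this (f := pullback.fst (𝒰.f i) f) (hf.of_isPullback (IsPullback.of_hasPullback (𝒰.f i) f).flip)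
      _ ?_ ⟨_, rfl⟩
    rw [← Set.preimage_comp, ← TopCat.coe_comp, ← Scheme.Hom.comp_base, pullback.condition,
      Scheme.Hom.comp_base, TopCat.coe_comp, Set.preimage_comp]
    exact hs.preimage (Scheme.Hom.continuous _)
  obtain ⟨R, rfl⟩ := hY
  wlog hX : ∃ S, X = Spec S
  · have _ : CompactSpace X := QuasiCompact.compactSpace_of_compactSpace f
    let 𝒰 := X.affineCover.finiteSubcover
    let p : ∐ (fun i : 𝒰.I₀ ↦ 𝒰.X i) ⟶ X := Sigma.desc (fun i ↦ 𝒰.f i)
    refine this (f := (∐ (fun i : 𝒰.I₀ ↦ 𝒰.X i)).isoSpec.inv ≫ p ≫ f)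
      _ ((uGen_of_flat _).comp ((uGen_of_flat p).comp hf)) _ ?_ ⟨_, rfl⟩
    rw [← Category.assoc, Scheme.Hom.comp_base, TopCat.coe_comp, Set.preimage_comp]
    exact hs.preimage (_ ≫ p).continuous
  obtain ⟨S, rfl⟩ := hX
  obtain ⟨φ, rfl⟩ := Spec.map_surjective f
  refine ((PrimeSpectrum.isQuotientMap_of_generalizingMap ?_ ?_).isOpen_preimage).mp hs
  · exact (surjective_iff (Spec.map φ)).mp inferInstance
  · exact hf.generalizingMap

end GrothLib.EtSec
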