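import Groth.Agent.Lib.EtSec.Global
import Groth.Agent.Lib.LocConst.Generic
import Mathlib.AlgebraicGeometry.PullbackCarrier
import Mathlib.FieldTheory.IsAlgClosed.AlgebraicClosure

/-!
# Relative sections and morphisms with connected geometric fibres
-/

universe u

open CategoryTheory CategoryTheory.Limits AlgebraicGeometry Opposite
open GrothLib.EtSite

set_option backward.isDefEq.respectTransparency.types false

noncomputable section

namespace GrothLib.EtSec

variable {T S Z : Scheme.{u}} {F : EtDesc.Sh S} (a : Z ⟶ T) {b : T ⟶ S}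

/-- The geometric fibres are connected. -/
def HasConnectedFibres : Prop :=
  ∀ (Ω : Type u) [Field Ω] [IsAlgClosed Ω] (s : Spec (CommRingCat.of Ω) ⟶ T), ConnectedSpace ↥(pullback a s)

/-- All base changes to etale schemes over the base are topological quotient maps. -/
def HasQuotientBC : Prop :=
  ∀ (W : Scheme.{u}) (w : W ⟶ T), Etale w → Topology.IsQuotientMap (pullback.snd a w).base

variable {a}

theorem HasQuotientBC.surjective (hq : HasQuotientBC a) : Surjective a :=
  ⟨fun t => by
    obtain ⟨z, hz⟩ := (hq T (𝟙 T) inferInstance).surjective t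
    exact ⟨pullback.fst a (𝟙 T) z, (congrArg (fun m : pullback a (𝟙 T) ⟶ T => m.base z)
      (pullback.condition.trans (Category.comp_id _))).trans hz⟩⟩

/-- A family of connected geometric fibres gives preconnected fibres after base change. -/
theorem HasConnectedFibres.isPreconnected_fibre (hc : HasConnectedFibres a) {W : Scheme.{u}} (w : W ⟶ T) (x : W) :
    _root_.IsPreconnected ((pullback.snd a w).base ⁻¹' {x}) := by
  obtain ⟨Ω, _, _, η, rfl⟩ := Secs.exists_point x
  have hη : Set.range η.base = {η.base default} := by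
    ext y
    exact ⟨fun ⟨z, hz⟩ => hz ▸ congrArg η.base (Subsingleton.elim z default), fun h => ⟨default, h.symm⟩⟩
  rw [← hη, ← Scheme.Pullback.range_fst]
  have sq : IsPullback (pullback.fst (pullback.snd a w) η ≫ pullback.fst a w) (pullback.snd (pullback.snd a w) η)
      a (η ≫ w) :=
    (IsPullback.of_hasPullback (pullback.snd a w) η).paste_horiz (IsPullback.of_hasPullback a w)
  haveI := hc Ω (η ≫ w)
  haveI : ConnectedSpace ↥(pullback (pullback.snd a w) η) :=
    sq.isoPullback.inv.homeomorph.surjective.connectedSpace sq.isoPullback.inv.continuous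
  exact isPreconnected_range (pullback.fst (pullback.snd a w) η).continuous

theorem res_injective [Surjective a] {c : Z ⟶ S} (e : a ≫ b = c) :
    Function.Injective (fun s : Secs b F => s.res a e) := fun s s' h =>
  Secs.eq_of_eqLocus s s' fun t => by
    obtain ⟨z, rfl⟩ := a.surjective t
    rw [← Secs.mem_eqLocus_res a e, Secs.eqLocus_eq_univ h]
    exact Set.mem_univ z

/-- The pullback of a local comparison is saturated. -/
theorem isSaturated_eqLocus (hc : HasConnectedFibres a) {c : Z ⟶ S} (e : a ≫ b = c)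
    (σ : Secs c F) {W : Scheme.{u}} (w : W ⟶ T) [Etale w] (ρ : Secs (w ≫ b) F) :
    (pullback.snd a w).base ⁻¹' ((pullback.snd a w).base '' Secs.eqLocus
        (σ.res (pullback.fst a w) (show pullback.fst a w ≫ c = pullback.snd a w ≫ w ≫ b by
          rw [← e, pullback.condition_assoc]))
        (ρ.res (pullback.snd a w) rfl)) =
      Secs.eqLocus
        (σ.res (pullback.fst a w) (show pullback.fst a w ≫ c = pullback.snd a w ≫ w ≫ b by
          rw [← e, pullback.condition_assoc]))
        (ρ.res (pullback.snd a w) rfl) := by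
  refine Set.Subset.antisymm ?_ (Set.subset_preimage_image _ _)
  rintro y₁ ⟨y₂, hy₂E, hy₂⟩
  by_contra hy₁E
  let π := pullback.snd a w
  let φ := pullback.fst a w
  have hφ : φ ≫ c = π ≫ w ≫ b := by rw [← e, pullback.condition_assoc]
  let E := Secs.eqLocus (σ.res φ hφ) (ρ.res π rfl)
  let x := π.base y₁
  let B : Set ↥(pullback a w) := ⋃₀ {N | IsOpen N ∧ ∀ y ∈ N, π.base y = x → y ∉ E}
  have hB : IsOpen B := isOpen_sUnion fun N hN => hN.1
  have hcov : π.base ⁻¹' {x} ⊆ E ∪ B := fun y (hy : π.base y = x) => by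
    by_cases hyE : y ∈ E
    · exact Or.inl hyE
    refine Or.inr ?_
    obtain ⟨Ω, _, _, p, rfl⟩ := Secs.exists_point y
    obtain ⟨V₂, v₂, hv₂, p₂, W₂, m₂, hm₂, s₂, hp₂, hs₂⟩ := σ.exists_rep (p ≫ φ)
    let wh₂ : W₂.left ⟶ S := W₂.hom
    have hm₂' : m₂ ≫ wh₂ = v₂ ≫ c := hm₂
    haveI : Etale wh₂ := W₂.prop
    let W' := pullback (w ≫ b) wh₂
    let pr : W' ⟶ W := pullback.fst (w ≫ b) wh₂
    haveI : Etale pr := MorphismProperty.pullback_fst _ _ ‹Etale wh₂›
    haveI := GrothLib.LocConst.locallyQuasiFinite_of_etale pr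
    let s' : Secs (pr ≫ w ≫ b) F :=
      Secs.ofSect (pullback.snd (w ≫ b) wh₂) (pullback.condition (f := w ≫ b) (g := wh₂)).symm s₂
    let V' := pullback φ v₂
    let v' : V' ⟶ pullback a w := pullback.fst φ v₂
    haveI : Etale v' := MorphismProperty.pullback_fst _ _ hv₂
    let μ : V' ⟶ W' := pullback.lift (v' ≫ π) (pullback.snd φ v₂ ≫ m₂) ((Category.assoc _ _ _).trans
      ((congrArg (v' ≫ ·) hφ.symm).trans ((pullback.condition_assoc c).trans
        ((congrArg (pullback.snd φ v₂ ≫ ·) hm₂'.symm).trans (Category.assoc _ _ _).symm))))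
    have hμ : μ ≫ pr = v' ≫ π := pullback.lift_fst _ _ _
    have hμ' : μ ≫ pullback.snd (w ≫ b) wh₂ = pullback.snd φ v₂ ≫ m₂ := pullback.lift_snd _ _ _
    let p' : Spec (CommRingCat.of Ω) ⟶ V' := pullback.lift p p₂ hp₂.symm
    let w₁ := μ.base (p'.base default)
    have hw₁ : pr.base w₁ = x := by
      refine Eq.trans ?_ hy
      exact congrArg (fun k : Spec (CommRingCat.of Ω) ⟶ W => k.base default)
        (show p' ≫ μ ≫ pr = p ≫ π by rw [hμ, pullback.lift_fst_assoc])
    obtain ⟨O, hO, hOu⟩ := (isDiscrete_iff_forall_exists_isOpen.1 (pr.isDiscrete_preimage_singleton x)) w₁ hw₁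
    have key : ∀ z : V', v'.base z ∈ E ↔ μ.base z ∈ Secs.eqLocus s' (ρ.res pr rfl) := fun z => by
      obtain ⟨Ω', _, _, q, rfl⟩ := Secs.exists_point z
      let η := ((q ≫ v') ≫ π) ≫ w ≫ b
      have h1 : (q ≫ v') ≫ π ≫ w ≫ b = η := (Category.assoc _ _ _).symm
      have h2 : (q ≫ μ) ≫ pr ≫ w ≫ b = η := by
        simp only [η, Category.assoc]
        rw [← Category.assoc μ pr, hμ, Category.assoc]
      refine (Secs.mem_eqLocus_iff _ _ (q ≫ v') η h1).trans (Iff.trans ?_ (Secs.mem_eqLocus_iff _ _ (q ≫ μ) η h2).symm)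
      have hl : ((q ≫ v') ≫ φ) = (q ≫ pullback.snd φ v₂) ≫ v₂ := by
        simp only [v', Category.assoc, pullback.condition]
      have hl' : ((q ≫ pullback.snd φ v₂) ≫ v₂) ≫ c = η := by
        rw [← hl, Category.assoc (q ≫ v') φ c, hφ]; exact h1
      have hr : (q ≫ v') ≫ π = (q ≫ μ) ≫ pr := by rw [Category.assoc, Category.assoc, hμ]
      have e1 : (σ.res φ hφ).val Ω' (q ≫ v') η h1 = s'.val Ω' (q ≫ μ) η h2 := by
        refine (σ.val_congr hl _ hl').trans ((hs₂ Ω' (q ≫ pullback.snd φ v₂) η hl').trans ?_)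
        exact gSh_congr (by rw [Category.assoc, Category.assoc, hμ']) _ _ s₂
      have e2 : (ρ.res π rfl).val Ω' (q ≫ v') η h1 = (ρ.res pr rfl).val Ω' (q ≫ μ) η h2 := ρ.val_congr hr _ _
      exact ⟨fun hh => e1.symm.trans (hh.trans e2), fun hh => e1.trans (hh.trans e2.symm)⟩
    refine Set.mem_sUnion.2 ⟨v'.base '' (μ.base ⁻¹' O), ⟨v'.isOpenMap _ (hO.preimage μ.continuous), ?_⟩,
      p'.base default, (hOu.ge (rfl : w₁ = w₁)).1,
      congrArg (fun k : Spec (CommRingCat.of Ω) ⟶ pullback a w => k.base default) (pullback.lift_fst p p₂ hp₂.symm)⟩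
    rintro _ ⟨z, hz, rfl⟩ hzx hzE
    have hz' : μ.base z = w₁ := hOu.le ⟨hz,
      (congrArg (fun k : V' ⟶ W => k.base z) hμ).trans hzx⟩
    have := (key z).1 hzE
    rw [hz'] at this
    refine hyE ?_
    have h3 := (key (p'.base default)).2 this
    rwa [show v'.base (p'.base default) = p.base default from
      congrArg (fun k : Spec (CommRingCat.of Ω) ⟶ pullback a w => k.base default) (pullback.lift_fst p p₂ hp₂.symm)] at h3
  obtain ⟨y, hy, hyE, hyB⟩ := hc.isPreconnected_fibre w x E B (Secs.isOpen_eqLocus _ _) hB hcov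
    ⟨y₂, hy₂, hy₂E⟩ ⟨y₁, rfl, (hcov (rfl : π.base y₁ = x)).resolve_left hy₁E⟩
  obtain ⟨N, hN, hyN⟩ := Set.mem_sUnion.1 hyB
  exact hN.2 y hyN hy hyE

/-- Relative sections descend uniquely along morphisms with connected geometric fibres all of whose
etale base changes are quotient maps. -/
theorem res_bijective (hq : HasQuotientBC a) (hc : HasConnectedFibres a) {c : Z ⟶ S} (e : a ≫ b = c) :
    Function.Bijective (fun s : Secs b F => s.res a e) := by
  haveI := hq.surjective
  refine ⟨res_injective e, fun σ => ?_⟩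
  have loc : ∀ t : T, ∃ (W : Scheme.{u}) (w : W ⟶ T) (_ : Etale w) (x : W) (ρ : Secs (w ≫ b) F),
      w.base x = t ∧ ∀ y : ↥(pullback a w), y ∈ Secs.eqLocus
        (σ.res (pullback.fst a w) (show pullback.fst a w ≫ c = pullback.snd a w ≫ w ≫ b by
          rw [← e, pullback.condition_assoc]))
        (ρ.res (pullback.snd a w) rfl) := by
    intro t
    obtain ⟨z, rfl⟩ := a.surjective t
    obtain ⟨Ω, _, _, p, rfl⟩ := Secs.exists_point z
    obtain ⟨V, v, hv, p', W₀, m, hm, s, hp, hs⟩ := σ.exists_rep p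
    let wh : W₀.left ⟶ S := W₀.hom
    have hm' : m ≫ wh = v ≫ c := hm
    haveI : Etale wh := W₀.prop
    let W := pullback b wh
    let w : W ⟶ T := pullback.fst b wh
    haveI : Etale w := MorphismProperty.pullback_fst _ _ ‹Etale wh›
    let ρ : Secs (w ≫ b) F := Secs.ofSect (pullback.snd b wh) (pullback.condition (f := b) (g := wh)).symm s
    have hφ : pullback.fst a w ≫ c = pullback.snd a w ≫ w ≫ b := by rw [← e, pullback.condition_assoc]
    let E := Secs.eqLocus (σ.res (pullback.fst a w) hφ) (ρ.res (pullback.snd a w) rfl)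
    have hsat := isSaturated_eqLocus hc e σ w ρ
    let O : W.Opens := ⟨(pullback.snd a w).base '' E,
      ((hq W w ‹Etale w›).isOpen_preimage).1 (by rw [hsat]; exact Secs.isOpen_eqLocus _ _)⟩
    let pw : Spec (CommRingCat.of Ω) ⟶ W := pullback.lift (p ≫ a) (p' ≫ m) (by
      rw [Category.assoc p' m, hm', ← Category.assoc p' v, hp, Category.assoc p a b, e])
    let pz : Spec (CommRingCat.of Ω) ⟶ pullback a w := pullback.lift p pw (pullback.lift_fst _ _ _).symm
    have hE : pz.base default ∈ E := by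
      refine (Secs.mem_eqLocus_iff _ _ pz (p ≫ c) ?_).2 ?_
      · rw [← hφ, pullback.lift_fst_assoc]
      have h1 : (p' ≫ v) ≫ c = p ≫ c := by rw [hp]
      refine (σ.val_congr ((pullback.lift_fst _ _ _).trans hp.symm) _ h1).trans ((hs Ω p' _ h1).trans ?_)
      exact gSh_congr (((congrArg (· ≫ pullback.snd b wh) (pullback.lift_snd _ _ _)).trans (pullback.lift_snd _ _ _)).symm) _ _ s
    have hO : pw.base default ∈ O := ⟨_, hE,
      congrArg (fun k : Spec (CommRingCat.of Ω) ⟶ W => k.base default) (pullback.lift_snd _ _ _)⟩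
    haveI : Etale (O.ι ≫ w) := inferInstance
    refine ⟨O, O.ι ≫ w, inferInstance, ⟨_, hO⟩, ρ.res O.ι (Category.assoc _ _ _).symm, ?_, fun y => ?_⟩
    · exact congrArg (fun k : Spec (CommRingCat.of Ω) ⟶ T => k.base default) (pullback.lift_fst _ _ _)
    obtain ⟨Ω', _, _, q, rfl⟩ := Secs.exists_point y
    let η := (q ≫ pullback.fst a (O.ι ≫ w)) ≫ c
    have hη : q ≫ pullback.snd a (O.ι ≫ w) ≫ (O.ι ≫ w) ≫ b = η := by
      simp only [η, Category.assoc]; rw [← e, pullback.condition_assoc, Category.assoc]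
    refine (Secs.mem_eqLocus_iff _ _ q η hη).2 ?_
    let q₂ : Spec (CommRingCat.of Ω') ⟶ pullback a w := pullback.lift (q ≫ pullback.fst a (O.ι ≫ w))
      ((q ≫ pullback.snd a (O.ι ≫ w)) ≫ O.ι) (by rw [Category.assoc, pullback.condition]; simp)
    have hq₂ : q₂.base default ∈ E := by
      refine hsat.le ?_
      have : (pullback.snd a w).base (q₂.base default) = O.ι.base ((q ≫ pullback.snd a (O.ι ≫ w)).base default) :=
        congrArg (fun k : Spec (CommRingCat.of Ω') ⟶ W => k.base default) (pullback.lift_snd _ _ _)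
      exact Set.mem_preimage.2 (Set.mem_of_eq_of_mem this ((q ≫ pullback.snd a (O.ι ≫ w)).base default).2)
    have h2 : q₂ ≫ pullback.snd a w ≫ w ≫ b = η := by
      rw [pullback.lift_snd_assoc, ← hη]; simp
    refine (σ.val_congr (pullback.lift_fst (f := a) (g := w) _ _ _).symm _ ?_).trans
      (((Secs.mem_eqLocus_iff _ _ q₂ η h2).1 hq₂).trans (ρ.val_congr (pullback.lift_snd _ _ _) ?_ ?_))
    · rw [Category.assoc q₂, hφ]; exact h2
    · rw [Category.assoc q₂]; exact h2
    · rw [← hη]; simp only [Category.assoc]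
  choose W w hw x ρ hx hρ using loc
  obtain ⟨s, hs⟩ := Secs.exists_glue W w hw (fun t => ⟨t, x t, hx t⟩) ρ
    (fun i j Ω _ _ p q η hp hq' hpq => by
      haveI := hw i
      haveI := hw j
      let pij : Spec (CommRingCat.of Ω) ⟶ pullback (w i) (w j) := pullback.lift p q hpq
      have hπ : pullback.snd (w i) (w j) ≫ w j ≫ b = pullback.fst (w i) (w j) ≫ w i ≫ b :=
        (pullback.condition_assoc _).symm
      have h : pij ≫ pullback.fst (w i) (w j) ≫ w i ≫ b = η := by rw [pullback.lift_fst_assoc, hp]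
      have key : (ρ i).res (pullback.fst (w i) (w j)) rfl = (ρ j).res (pullback.snd (w i) (w j)) hπ := by
        refine Secs.eq_of_eqLocus _ _ fun z => ?_
        obtain ⟨z₀, hz₀⟩ := a.surjective ((w i).base ((pullback.fst (w i) (w j)).base z))
        obtain ⟨y, hy₁, hy₂⟩ := Scheme.Pullback.exists_preimage_pullback (f := pullback.fst (w i) (w j) ≫ w i) (g := a)
          z z₀ hz₀.symm
        obtain ⟨Ω', _, _, r, rfl⟩ := Secs.exists_point y
        let P := pullback.fst (pullback.fst (w i) (w j) ≫ w i) a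
        let Q := pullback.snd (pullback.fst (w i) (w j) ≫ w i) a
        rw [← hy₁]
        let η' := (r ≫ Q) ≫ c
        have hr : (r ≫ Q) ≫ a = ((r ≫ P) ≫ pullback.fst (w i) (w j)) ≫ w i := by
          simp only [P, Q, Category.assoc, ← pullback.condition]
        have hrj : (r ≫ Q) ≫ a = ((r ≫ P) ≫ pullback.snd (w i) (w j)) ≫ w j := by
          rw [hr]; simp only [Category.assoc, pullback.condition (f := w i) (g := w j)]
        have hη' : (r ≫ P) ≫ pullback.fst (w i) (w j) ≫ w i ≫ b = η' := by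
          simp only [η', ← e]
          rw [← Category.assoc (r ≫ Q), hr]; simp only [Category.assoc]
        refine (Secs.mem_eqLocus_iff _ _ (r ≫ P) η' hη').2 ?_
        let ri : Spec (CommRingCat.of Ω') ⟶ pullback a (w i) := pullback.lift (r ≫ Q) ((r ≫ P) ≫ pullback.fst (w i) (w j)) hr
        let rj : Spec (CommRingCat.of Ω') ⟶ pullback a (w j) := pullback.lift (r ≫ Q) ((r ≫ P) ≫ pullback.snd (w i) (w j)) hrj
        have hi : ri ≫ pullback.snd a (w i) ≫ w i ≫ b = η' := by
          rw [pullback.lift_snd_assoc, ← hη']; simp only [Category.assoc]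
        have hj : rj ≫ pullback.snd a (w j) ≫ w j ≫ b = η' := by
          rw [pullback.lift_snd_assoc, ← hη', ← hπ]; simp only [Category.assoc]
        have ei := (Secs.mem_eqLocus_iff _ _ ri η' hi).1 (hρ i _)
        have ej := (Secs.mem_eqLocus_iff _ _ rj η' hj).1 (hρ j _)
        refine ((ρ i).val_congr (pullback.lift_snd _ _ _).symm _ ((Category.assoc _ _ _).trans hi)).trans
          (ei.symm.trans ((σ.val_congr ?_ _ _).trans (ej.trans ((ρ j).val_congr (pullback.lift_snd _ _ _) _ _))))
        rw [pullback.lift_fst, pullback.lift_fst]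
      have h' := congrArg (fun t : Secs _ F => t.val Ω pij η h) key
      exact ((ρ i).val_congr (pullback.lift_fst _ _ _).symm hp _).trans
        (h'.trans ((ρ j).val_congr (pullback.lift_snd _ _ _) _ hq')))
  refine ⟨s, Secs.ext' fun Ω _ _ p η h => ?_⟩
  let t := a.base (p.base default)
  haveI := hw t
  obtain ⟨q, hq', -⟩ := exists_lift (w t) (p ≫ a) (x t) (hx t)
  let r : Spec (CommRingCat.of Ω) ⟶ pullback a (w t) := pullback.lift p q hq'.symm
  have h0 : q ≫ w t ≫ b = η := by rw [← Category.assoc, hq', Category.assoc, e, h]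
  have hr : r ≫ pullback.snd a (w t) ≫ w t ≫ b = η := by rw [pullback.lift_snd_assoc, h0]
  have e1 := congrArg (fun ρ' : Secs (w t ≫ b) F => ρ'.val Ω q η h0) (hs t)
  refine (s.val_congr hq'.symm _ ((Category.assoc _ _ _).trans h0)).trans (e1.trans ?_)
  exact ((ρ t).val_congr (pullback.lift_snd _ _ _).symm h0 _).trans
    (((Secs.mem_eqLocus_iff _ _ r η hr).1 (hρ t _)).symm.trans (σ.val_congr (pullback.lift_fst _ _ _) _ h))

end GrothLib.EtSec
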