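import Groth.Agent.Lib.EtSec.Global
import Groth.Agent.Lib.LimDesc.Basic

/-!
# Relative sections on a limit of schemes with affine transition maps

For a cofiltered diagram of quasi-compact quasi-separated schemes over `S` with affine transition
maps, relative sections on the limit are the colimit of the relative sections on the stages.
-/

universe u

open CategoryTheory CategoryTheory.Limits AlgebraicGeometry Opposite
open GrothLib.EtSite

set_option backward.isDefEq.respectTransparency.types false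

noncomputable section

namespace GrothLib.EtSec

variable {I : Type u} [SmallCategory I] [IsCofiltered I] {D : I ⥤ Scheme.{u}}
  [∀ {i j} (f : i ⟶ j), IsAffineHom (D.map f)] {c : Cone D} (hc : IsLimit c)
  {S : Scheme.{u}} {F : EtDesc.Sh S} {b : ∀ i, D.obj i ⟶ S}
  (hb : ∀ {i j} (f : i ⟶ j), D.map f ≫ b j = b i) {bc : c.pt ⟶ S} (hbc : ∀ i, c.π.app i ≫ b i = bc)

include hc in
/-- Sections on a stage that agree on the limit agree on a later stage. -/
theorem exists_res_eq [∀ i, CompactSpace ↥(D.obj i)] {i : I} (σ τ : Secs (b i) F)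
    (h : σ.res (c.π.app i) (hbc i) = τ.res (c.π.app i) (hbc i)) :
    ∃ (j : I) (f : j ⟶ i), σ.res (D.map f) (hb f) = τ.res (D.map f) (hb f) := by
  let E : (D.obj i).Opens := ⟨Secs.eqLocus σ τ, Secs.isOpen_eqLocus σ τ⟩
  obtain ⟨j, f, hf⟩ := exists_map_eq_top D c hc E (top_le_iff.1 fun z _ =>
    ((Secs.mem_eqLocus_res (c.π.app i) (hbc i) σ τ z).1 (by rw [Secs.eqLocus_eq_univ h]; exact Set.mem_univ z)))
  exact ⟨j, f, Secs.eq_of_eqLocus _ _ fun z => (Secs.mem_eqLocus_res (D.map f) (hb f) σ τ z).2 (hf.ge (Set.mem_univ z))⟩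

include hc hb hbc in
/-- Near every point a section on the limit comes from an etale scheme over a stage. -/
theorem exists_stage_local [∀ i, CompactSpace ↥(D.obj i)] [∀ i, QuasiSeparatedSpace ↥(D.obj i)]
    (σ : Secs bc F) (z : c.pt) :
    ∃ (i : I) (V : Scheme.{u}) (v : V ⟶ D.obj i) (_ : Etale v) (_ : CompactSpace ↥V)
      (ρ : Secs (v ≫ b i) F), (c.π.app i).base z ∈ Set.range v.base ∧
      ∀ (Ω : Type u) [Field Ω] [IsSepClosed Ω] (q : Spec (CommRingCat.of Ω) ⟶ V)
        (p : Spec (CommRingCat.of Ω) ⟶ c.pt) (η : Spec (CommRingCat.of Ω) ⟶ S) (hp : p ≫ bc = η)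
        (hq : q ≫ v ≫ b i = η), q ≫ v = p ≫ c.π.app i → σ.val Ω p η hp = ρ.val Ω q η hq := by
  obtain ⟨i₀⟩ := IsCofiltered.nonempty (C := I)
  obtain ⟨V₀, v₀, hv₀, z', W, m, hm, t, hz, ht⟩ := σ.loc z
  obtain ⟨Ω₀, _, _, p₀, rfl⟩ := Secs.exists_point z
  obtain ⟨p', hp', -⟩ := exists_lift v₀ p₀ z' hz
  let wh : W.left ⟶ S := W.hom
  have hm' : m ≫ wh = v₀ ≫ bc := hm
  haveI : Etale wh := W.prop
  haveI : Etale (pullback.fst (b i₀) wh) := MorphismProperty.pullback_fst _ _ ‹Etale wh›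
  let pW : Spec (CommRingCat.of Ω₀) ⟶ pullback (b i₀) wh := pullback.lift (p₀ ≫ c.π.app i₀) (p' ≫ m) (by
    rw [Category.assoc p', hm', ← Category.assoc p', hp', Category.assoc p₀, hbc])
  obtain ⟨_, ⟨A₀, hA₀, rfl⟩, hxA, -⟩ :=
    (pullback (b i₀) wh).isBasis_affineOpens.exists_subset_of_mem_open (Set.mem_univ (pW.base default)) isOpen_univ
  let A : (pullback (b i₀) wh).Opens := A₀
  have hA : IsAffineOpen A := hA₀
  haveI : IsAffine A.toScheme := hA
  let a : A.toScheme ⟶ D.obj i₀ := A.ι ≫ pullback.fst (b i₀) wh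
  haveI : ∀ (i j : I) (f : i ⟶ j), IsAffineHom (D.map f) := fun _ _ _ => inferInstance
  have hP := IsPullback.of_hasPullback a (c.π.app i₀)
  let hlim := LimDesc.isLimitCone D i₀ a hP hc
  haveI : ∀ {j k : Over i₀} (φ : j ⟶ k), IsAffineHom ((LimDesc.diag D i₀ a).map φ) :=
    fun φ => LimDesc.isAffineHom_map D i₀ a φ
  let π₂ : ∀ j : Over i₀, (LimDesc.diag D i₀ a).obj j ⟶ D.obj j.left := fun j => pullback.snd a (D.map j.hom)
  let mm : ∀ j : Over i₀, (LimDesc.diag D i₀ a).obj j ⟶ W.left := fun j =>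
    pullback.fst a (D.map j.hom) ≫ A.ι ≫ pullback.snd (b i₀) wh
  have hmm : ∀ j : Over i₀, mm j ≫ wh = π₂ j ≫ b j.left := fun j => by
    simp only [mm, π₂, Category.assoc]
    rw [← pullback.condition, ← hb j.hom]
    exact ((congrArg (pullback.fst a (D.map j.hom) ≫ ·) (Category.assoc _ _ _).symm).trans
      (pullback.condition_assoc (b i₀)))
  let P := pullback a (c.π.app i₀)
  let τ : Secs (pullback.snd a (c.π.app i₀) ≫ bc) F :=
    Secs.ofSect (pullback.fst a (c.π.app i₀) ≫ A.ι ≫ pullback.snd (b i₀) wh) (by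
      change (_ ≫ _ ≫ _) ≫ wh = _
      rw [← hbc i₀, ← pullback.condition_assoc]
      simp only [a, Category.assoc, pullback.condition]) t
  let E := Secs.eqLocus (σ.res (pullback.snd a (c.π.app i₀)) rfl) τ
  obtain ⟨pA, hpA, -⟩ := exists_lift A.ι pW ⟨pW.base default, hxA⟩ rfl
  let pP : Spec (CommRingCat.of Ω₀) ⟶ P := pullback.lift pA p₀ (by
    rw [← Category.assoc, hpA, pullback.lift_fst])
  have hpE : pP.base default ∈ E := by
    refine (Secs.mem_eqLocus_iff _ _ pP (p₀ ≫ bc) (by rw [pullback.lift_snd_assoc])).2 ?_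
    refine (σ.val_congr ((pullback.lift_snd _ _ _).trans hp'.symm) _ (by rw [hp'])).trans ((ht Ω₀ p' _ _).trans ?_)
    refine gSh_congr ?_ _ _ t
    rw [pullback.lift_fst_assoc, ← Category.assoc pA, hpA, pullback.lift_snd]
  obtain ⟨_, ⟨U₀, hU₀, rfl⟩, hxU, hUE⟩ :=
    P.isBasis_affineOpens.exists_subset_of_mem_open hpE (Secs.isOpen_eqLocus _ _)
  let U : P.Opens := U₀
  have hU : IsAffineOpen U := hU₀
  obtain ⟨j, V, hVc, hVU⟩ := exists_preimage_eq _ _ hlim U hU.isCompact
  haveI : Etale (π₂ j) := MorphismProperty.pullback_snd a (D.map j.hom) (inferInstance : Etale a)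
  haveI : Etale (V.ι ≫ π₂ j) := inferInstance
  haveI : CompactSpace ↥(V.toScheme) := isCompact_iff_compactSpace.mp hVc
  let ρ : Secs ((V.ι ≫ π₂ j) ≫ b j.left) F := Secs.ofSect (V.ι ≫ mm j)
    ((Category.assoc _ _ _).trans ((congrArg (V.ι ≫ ·) (hmm j)).trans (Category.assoc _ _ _).symm)) t
  refine ⟨j.left, V.toScheme, V.ι ≫ π₂ j, inferInstance, inferInstance, ρ, ?_, fun Ω _ _ q p η hp hq hqp => ?_⟩
  · have hmem : ((LimDesc.cone D i₀ a hP).π.app j).base (pP.base default) ∈ V := by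
      exact hVU.ge (hxU : pP.base default ∈ U)
    refine ⟨⟨_, hmem⟩, ?_⟩
    refine congrArg (fun k : Spec (CommRingCat.of Ω₀) ⟶ D.obj j.left => k.base default)
      (?_ : (pP ≫ (LimDesc.cone D i₀ a hP).π.app j) ≫ π₂ j = p₀ ≫ c.π.app j.left)
    exact (Category.assoc _ _ _).trans ((congrArg (pP ≫ ·) (LimDesc.π_snd D i₀ a hP j)).trans
      ((pullback.lift_snd_assoc _ _ _ _)))
  let r : Spec (CommRingCat.of Ω) ⟶ P := pullback.lift ((q ≫ V.ι) ≫ pullback.fst a (D.map j.hom)) p (by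
    refine (Category.assoc _ _ _).trans ((congrArg ((q ≫ V.ι) ≫ ·) pullback.condition).trans ?_)
    rw [← c.w j.hom]
    refine ((Category.assoc _ _ _).symm.trans ?_).trans (Category.assoc _ _ _)
    exact congrArg (· ≫ D.map j.hom) ((Category.assoc _ _ _).trans hqp))
  have hr : r ≫ (LimDesc.cone D i₀ a hP).π.app j = q ≫ V.ι := by
    apply pullback.hom_ext
    · exact (Category.assoc _ _ _).trans ((congrArg (r ≫ ·) (LimDesc.π_fst D i₀ a hP j)).trans
        (pullback.lift_fst _ _ _))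
    · exact (Category.assoc _ _ _).trans ((congrArg (r ≫ ·) (LimDesc.π_snd D i₀ a hP j)).trans
        ((pullback.lift_snd_assoc _ _ _ _).trans (hqp.symm.trans (Category.assoc _ _ _).symm)))
  have hrU : r.base default ∈ U := by
    rw [← hVU]
    change (r ≫ (LimDesc.cone D i₀ a hP).π.app j).base default ∈ V
    rw [hr]
    exact (q.base default).2
  have h2 : r ≫ pullback.snd a (c.π.app i₀) ≫ bc = η := by rw [pullback.lift_snd_assoc, hp]
  refine (σ.val_congr (pullback.lift_snd _ _ _).symm hp ((Category.assoc _ _ _).trans h2)).trans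
    (((Secs.mem_eqLocus_iff _ _ r η h2).1 (hUE hrU)).trans ?_)
  refine gSh_congr ?_ _ _ t
  simp only [mm, r, Category.assoc, pullback.lift_fst_assoc]

include hc hb hbc in
/-- Sections on the limit come from a stage. -/
theorem exists_stage [∀ i, CompactSpace ↥(D.obj i)] [∀ i, QuasiSeparatedSpace ↥(D.obj i)]
    (σ : Secs bc F) : ∃ (i : I) (s : Secs (b i) F), s.res (c.π.app i) (hbc i) = σ := by
  classical
  haveI : CompactSpace ↥c.pt := Scheme.compactSpace_of_isLimit D c hc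
  choose i V v hv hVc ρ hz hρ using exists_stage_local hc hb hbc σ
  haveI := hv
  haveI := hVc
  let O : ∀ z, (D.obj (i z)).Opens := fun z => ⟨Set.range (v z).base, (v z).isOpenMap.isOpen_range⟩
  obtain ⟨T, hT⟩ := isCompact_univ.elim_finite_subcover (fun z => ((c.π.app (i z) ⁻¹ᵁ O z : c.pt.Opens) : Set c.pt))
    (fun z => (c.π.app (i z) ⁻¹ᵁ O z).2) (fun z _ => Set.mem_iUnion.2 ⟨z, hz z⟩)
  obtain ⟨j, hj⟩ := IsCofiltered.inf_objs_exists (T.image i)
  let f : ∀ z : T, j ⟶ i z.1 := fun z => (hj (Finset.mem_image_of_mem i z.2)).some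
  let U : (D.obj j).Opens := ⨆ z : T, D.map (f z) ⁻¹ᵁ O z.1
  obtain ⟨k, g, hk⟩ := exists_map_eq_top D c hc U (top_le_iff.1 fun x _ => by
    obtain ⟨z, hzT, hxz⟩ := Set.mem_iUnion₂.1 (hT (Set.mem_univ x))
    refine TopologicalSpace.Opens.mem_iSup.2 ⟨⟨z, hzT⟩, ?_⟩
    change (c.π.app j ≫ D.map (f ⟨z, hzT⟩)).base x ∈ O z
    rw [c.w]; exact hxz)
  let Vk : T → Scheme.{u} := fun z => pullback (D.map (g ≫ f z)) (v z.1)
  let vk : ∀ z : T, Vk z ⟶ D.obj k := fun z => pullback.fst _ _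
  haveI : ∀ z : T, Etale (vk z) := fun z => MorphismProperty.pullback_fst _ _ (hv z.1)
  haveI : ∀ z : T, CompactSpace ↥(Vk z) := fun z => by
    haveI : QuasiCompact (pullback.snd (D.map (g ≫ f z)) (v z.1)) :=
      MorphismProperty.pullback_snd _ _ (inferInstance : QuasiCompact (D.map (g ≫ f z)))
    exact QuasiCompact.compactSpace_of_compactSpace (pullback.snd (D.map (g ≫ f z)) (v z.1))
  have eρ : ∀ z : T, pullback.snd (D.map (g ≫ f z)) (v z.1) ≫ v z.1 ≫ b (i z.1) = vk z ≫ b k := fun z => by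
    rw [← pullback.condition_assoc, hb]
  let ρk : ∀ z : T, Secs (vk z ≫ b k) F := fun z => (ρ z.1).res (pullback.snd _ _) (eρ z)
  have hρk : ∀ (z : T) (Ω : Type u) [Field Ω] [IsSepClosed Ω] (q : Spec (CommRingCat.of Ω) ⟶ Vk z)
      (p : Spec (CommRingCat.of Ω) ⟶ c.pt) (η : Spec (CommRingCat.of Ω) ⟶ S) (hp : p ≫ bc = η)
      (hq : q ≫ vk z ≫ b k = η), q ≫ vk z = p ≫ c.π.app k → σ.val Ω p η hp = (ρk z).val Ω q η hq :=
    fun z Ω _ _ q p η hp hq hqp => hρ z.1 Ω (q ≫ pullback.snd _ _) p η hp _ (by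
      rw [Category.assoc, ← pullback.condition, ← Category.assoc, hqp, Category.assoc, c.w])
  have hcov : ∀ x : D.obj k, ∃ (z : T) (x' : Vk z), (vk z).base x' = x := fun x => by
    obtain ⟨z, x₁, hx₁⟩ := TopologicalSpace.Opens.mem_iSup.1 (hk.ge (Set.mem_univ x))
    obtain ⟨x', hx', -⟩ := Scheme.Pullback.exists_preimage_pullback (f := D.map (g ≫ f z)) (g := v z.1) x x₁ (by
      rw [hx₁, D.map_comp]; rfl)
    exact ⟨z, x', hx'⟩
  have hpair : ∀ y : T × T, ∃ (l : I) (h : l ⟶ k), ∀ l' (h' : l' ⟶ l) (Ω : Type u) [Field Ω] [IsSepClosed Ω]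
      (p : Spec (CommRingCat.of Ω) ⟶ Vk y.1) (q : Spec (CommRingCat.of Ω) ⟶ Vk y.2)
      (x : Spec (CommRingCat.of Ω) ⟶ D.obj l') (η : Spec (CommRingCat.of Ω) ⟶ S)
      (hp : p ≫ vk y.1 ≫ b k = η) (hq : q ≫ vk y.2 ≫ b k = η),
      p ≫ vk y.1 = x ≫ D.map (h' ≫ h) → q ≫ vk y.2 = x ≫ D.map (h' ≫ h) →
        (ρk y.1).val Ω p η hp = (ρk y.2).val Ω q η hq := by
    rintro ⟨z₁, z₂⟩
    let Y := pullback (vk z₁) (vk z₂)
    haveI : QuasiCompact (pullback.fst (vk z₁) (vk z₂)) :=
      MorphismProperty.pullback_fst _ _ (inferInstance : QuasiCompact (vk z₂))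
    haveI : CompactSpace ↥Y := QuasiCompact.compactSpace_of_compactSpace (pullback.fst (vk z₁) (vk z₂))
    let a : Y ⟶ D.obj k := pullback.fst _ _ ≫ vk z₁
    haveI : ∀ (i j : I) (f : i ⟶ j), IsAffineHom (D.map f) := fun _ _ _ => inferInstance
    let s₁ : Secs (a ≫ b k) F := (ρk z₁).res (pullback.fst (vk z₁) (vk z₂)) (Category.assoc _ _ _).symm
    let s₂ : Secs (a ≫ b k) F := (ρk z₂).res (pullback.snd (vk z₁) (vk z₂)) (by
      simp only [a, Category.assoc]; rw [pullback.condition_assoc])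
    let top : Over k := Over.mk (𝟙 k)
    let E : ((LimDesc.diag D k a).obj top).Opens :=
      pullback.fst a (D.map top.hom) ⁻¹ᵁ ⟨Secs.eqLocus s₁ s₂, Secs.isOpen_eqLocus _ _⟩
    haveI : ∀ {j l : Over k} (φ : j ⟶ l), IsAffineHom ((LimDesc.diag D k a).map φ) :=
      fun φ => LimDesc.isAffineHom_map D k a φ
    haveI : ∀ l : Over k, CompactSpace ↥((LimDesc.diag D k a).obj l) :=
      fun l => LimDesc.compactSpace_obj D k a l
    have hP := IsPullback.of_hasPullback a (c.π.app k)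
    obtain ⟨l, h, hl⟩ := exists_map_eq_top _ _ (LimDesc.isLimitCone D k a hP hc) E (top_le_iff.1 fun (x : ↥(pullback a (c.π.app k))) _ => by
      obtain ⟨Ω, _, _, r, rfl⟩ := Secs.exists_point x
      let η := (r ≫ pullback.snd a (c.π.app k)) ≫ bc
      change ((LimDesc.cone D k a hP).π.app top ≫ pullback.fst a (D.map top.hom)).base (r.base default) ∈
        Secs.eqLocus s₁ s₂
      rw [LimDesc.π_fst]
      have h1 : (r ≫ pullback.fst a (c.π.app k)) ≫ a ≫ b k = η := by
        rw [Category.assoc, pullback.condition_assoc, hbc]; exact (Category.assoc _ _ _).symm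
      refine (Secs.mem_eqLocus_iff s₁ s₂ (r ≫ pullback.fst a (c.π.app k)) η h1).2 ?_
      have hq1 : ((r ≫ pullback.fst a (c.π.app k)) ≫ pullback.fst (vk z₁) (vk z₂)) ≫ vk z₁ ≫ b k = η := by
        rw [Category.assoc, ← Category.assoc (pullback.fst (vk z₁) _)]; exact h1
      have hq2 : ((r ≫ pullback.fst a (c.π.app k)) ≫ pullback.snd (vk z₁) (vk z₂)) ≫ vk z₂ ≫ b k = η := by
        rw [Category.assoc, ← Category.assoc (pullback.snd (vk z₁) _), ← pullback.condition]; exact h1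
      refine (hρk z₁ Ω _ (r ≫ pullback.snd a (c.π.app k)) η rfl hq1 ?_).symm.trans
        (hρk z₂ Ω _ (r ≫ pullback.snd a (c.π.app k)) η rfl hq2 ?_)
      · rw [Category.assoc r (pullback.snd a (c.π.app k)), ← pullback.condition]
        simp only [a, Category.assoc]
      · rw [Category.assoc r (pullback.snd a (c.π.app k)), ← pullback.condition]
        simp only [a, Category.assoc]
        exact congrArg (fun m => r ≫ pullback.fst (pullback.fst (vk z₁) (vk z₂) ≫ vk z₁) (c.π.app k) ≫ m) pullback.condition.symm)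
    refine ⟨l.left, l.hom, fun l' h' Ω _ _ p q x η hp hq hpx hqx => ?_⟩
    let yΩ : Spec (CommRingCat.of Ω) ⟶ Y := pullback.lift p q (hpx.trans hqx.symm)
    let u' : Spec (CommRingCat.of Ω) ⟶ (LimDesc.diag D k a).obj l := pullback.lift yΩ (x ≫ D.map h') (by
      simp only [yΩ, a, pullback.lift_fst_assoc]
      rw [hpx, Category.assoc, ← D.map_comp])
    have hy : yΩ.base default ∈ Secs.eqLocus s₁ s₂ := by
      have := hl.ge (Set.mem_univ (u'.base default))
      change (u' ≫ (LimDesc.diag D k a).map h ≫ pullback.fst a (D.map top.hom)).base default ∈ Secs.eqLocus s₁ s₂ at this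
      rw [LimDesc.map_fst] at this
      exact (congrArg (fun m : Spec (CommRingCat.of Ω) ⟶ Y => m.base default ∈ Secs.eqLocus s₁ s₂)
        (pullback.lift_fst _ _ _ : u' ≫ pullback.fst a (D.map l.hom) = yΩ)).mp this
    have h1 : yΩ ≫ a ≫ b k = η := by
      simp only [yΩ, a, Category.assoc, pullback.lift_fst_assoc]; exact hp
    exact ((ρk z₁).val_congr (pullback.lift_fst _ _ _).symm hp
        ((congrArg (· ≫ vk z₁ ≫ b k) (pullback.lift_fst _ _ _ : yΩ ≫ pullback.fst (vk z₁) (vk z₂) = p)).trans hp)).trans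
      (((Secs.mem_eqLocus_iff s₁ s₂ yΩ η h1).1 hy).trans ((ρk z₂).val_congr (pullback.lift_snd _ _ _)
        ((congrArg (· ≫ vk z₂ ≫ b k) (pullback.lift_snd _ _ _ : yΩ ≫ pullback.snd (vk z₁) (vk z₂) = q)).trans hq) hq))
  choose l h hl using hpair
  obtain ⟨M, hM⟩ := IsCofiltered.inf_objs_exists (insert k (Finset.univ.image l))
  let e : M ⟶ k := (hM (Finset.mem_insert_self k _)).some
  obtain ⟨N, e', he'⟩ : ∃ (N : I) (e' : N ⟶ k), ∀ y : T × T, ∃ d : N ⟶ l y, d ≫ h y = e' := by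
    obtain ⟨N, fN, hN⟩ := IsCofiltered.inf_exists (insert M (insert k (Finset.univ.image l)))
      ((Finset.univ : Finset (T × T)).image fun y =>
        (⟨l y, k, Finset.mem_insert_of_mem (Finset.mem_insert_of_mem (Finset.mem_image_of_mem l (Finset.mem_univ y))),
          Finset.mem_insert_of_mem (Finset.mem_insert_self k _), h y⟩ :
          Σ' (X Y : I) (_ : X ∈ insert M (insert k (Finset.univ.image l)))
            (_ : Y ∈ insert M (insert k (Finset.univ.image l))), X ⟶ Y))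
    exact ⟨N, fN (Finset.mem_insert_of_mem (Finset.mem_insert_self k _)), fun y =>
      ⟨fN (Finset.mem_insert_of_mem (Finset.mem_insert_of_mem (Finset.mem_image_of_mem l (Finset.mem_univ y)))),
        hN _ _ (Finset.mem_image_of_mem _ (Finset.mem_univ y))⟩⟩
  have eN : ∀ z : T, pullback.snd (D.map e') (vk z) ≫ vk z ≫ b k = pullback.fst (D.map e') (vk z) ≫ b N := fun z => by
    rw [← pullback.condition_assoc, hb]
  obtain ⟨s, hs⟩ := Secs.exists_glue (fun z : T => pullback (D.map e') (vk z)) (fun z => pullback.fst _ _)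
    (fun z => MorphismProperty.pullback_fst _ _ (inferInstance : Etale (vk z)))
    (fun x => by
      obtain ⟨z, x₁, hx₁⟩ := hcov ((D.map e').base x)
      obtain ⟨x', hx', -⟩ := Scheme.Pullback.exists_preimage_pullback (f := D.map e') (g := vk z) x x₁ hx₁.symm
      exact ⟨z, x', hx'⟩)
    (fun z => (ρk z).res (pullback.snd _ _) (eN z))
    (fun z₁ z₂ Ω _ _ p q η hp hq hpq => by
      obtain ⟨d, hd⟩ := he' (z₁, z₂)
      refine hl (z₁, z₂) N d Ω (p ≫ pullback.snd _ _) (q ≫ pullback.snd _ _) (p ≫ pullback.fst _ _) η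
        ((Category.assoc _ _ _).trans ((congrArg (p ≫ ·) (eN z₁)).trans hp))
        ((Category.assoc _ _ _).trans ((congrArg (q ≫ ·) (eN z₂)).trans hq)) ?_ ?_
      · rw [hd, Category.assoc, Category.assoc, pullback.condition]
      · rw [hd, hpq, Category.assoc, Category.assoc, pullback.condition])
  refine ⟨N, s, Secs.ext' fun Ω _ _ p η hp => ?_⟩
  obtain ⟨z, x₁, hx₁⟩ := hcov ((D.map e').base ((c.π.app N).base (p.base default)))
  obtain ⟨q, hq, -⟩ := exists_lift (vk z) ((p ≫ c.π.app N) ≫ D.map e') x₁ hx₁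
  let r : Spec (CommRingCat.of Ω) ⟶ pullback (D.map e') (vk z) := pullback.lift (p ≫ c.π.app N) q hq.symm
  have h1 : (r ≫ pullback.fst _ _) ≫ b N = η := by
    rw [pullback.lift_fst, Category.assoc, hbc, hp]
  have h2 : q ≫ vk z ≫ b k = η := by
    rw [← Category.assoc, hq, Category.assoc, hb, Category.assoc, hbc, hp]
  refine (s.val_congr (pullback.lift_fst _ _ _).symm ((Category.assoc _ _ _).trans ((congrArg (p ≫ ·) (hbc N)).trans hp)) h1).trans ?_
  refine (congrArg (fun t : Secs _ F => t.val Ω r η ((Category.assoc _ _ _).symm.trans h1)) (hs z)).trans ?_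
  refine ((ρk z).val_congr (pullback.lift_snd _ _ _) ((congrArg (· ≫ vk z ≫ b k) (pullback.lift_snd _ _ _ : r ≫ pullback.snd _ _ = q)).trans h2) h2).trans (hρk z Ω q p η hp h2 ?_).symm
  rw [hq, Category.assoc, c.w]

end GrothLib.EtSec
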