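import Groth.Agent.Lib.EtSec.ProNbhd
import Groth.Agent.Lib.EtSec.Limit
import Groth.Agent.Lib.EtSec.ConnFibres
import Groth.Agent.Lib.EtSec.Gen

/-!
# Relative sections on base changes of strict localizations
-/

universe u

open CategoryTheory CategoryTheory.Limits AlgebraicGeometry Opposite

set_option backward.isDefEq.respectTransparency.types false

noncomputable section

namespace GrothLib.EtSec

variable {S T Z Z' Z'' : Scheme.{u}} {z : Z ⟶ S} {z' : Z' ⟶ S} {z'' : Z'' ⟶ S} (g : T ⟶ S)

/-- The map of base changes to `T`. -/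
def bmap (m : Z ⟶ Z') (e : m ≫ z' = z) : pullback z g ⟶ pullback z' g :=
  pullback.lift (pullback.fst z g ≫ m) (pullback.snd z g) (by rw [Category.assoc, e, pullback.condition])

@[reassoc (attr := simp)]
theorem bmap_fst (m : Z ⟶ Z') (e : m ≫ z' = z) :
    bmap g m e ≫ pullback.fst z' g = pullback.fst z g ≫ m :=
  pullback.lift_fst _ _ _

@[reassoc (attr := simp)]
theorem bmap_snd (m : Z ⟶ Z') (e : m ≫ z' = z) : bmap g m e ≫ pullback.snd z' g = pullback.snd z g :=
  pullback.lift_snd _ _ _

theorem bmap_comp (m : Z ⟶ Z') (e : m ≫ z' = z) (m' : Z' ⟶ Z'') (e' : m' ≫ z'' = z') :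
    bmap g m e ≫ bmap g m' e' =
      bmap g (m ≫ m') ((Category.assoc m m' z'').trans ((congrArg (m ≫ ·) e').trans e)) := by
  apply pullback.hom_ext <;> simp

theorem isPullback_bmap (m : Z ⟶ Z') (e : m ≫ z' = z) :
    IsPullback (bmap g m e) (pullback.fst z g) (pullback.fst z' g) m := by
  refine IsPullback.of_right ?_ (bmap_fst g m e) (IsPullback.of_hasPullback z' g).flip
  rw [bmap_snd, e]
  exact (IsPullback.of_hasPullback z g).flip

variable {F : EtDesc.Sh T}

/-- Restriction of relative sections along a map over the base. -/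
abbrev resT (m : Z ⟶ Z') (e : m ≫ z' = z) (s : Secs (pullback.snd z' g) F) : Secs (pullback.snd z g) F :=
  s.res (bmap g m e) (bmap_snd g m e)

theorem resT_resT (m : Z ⟶ Z') (e : m ≫ z' = z) (m' : Z' ⟶ Z'') (e' : m' ≫ z'' = z')
    (s : Secs (pullback.snd z'' g) F) :
    resT g m e (resT g m' e' s) =
      resT g (m ≫ m') ((Category.assoc m m' z'').trans ((congrArg (m ≫ ·) e').trans e)) s :=
  (Secs.res_comp _ _ _ _ s).trans (Secs.res_congr (bmap_comp g m e m' e') _ _ s)

theorem resT_congr {m m' : Z ⟶ Z'} (h : m = m') (e : m ≫ z' = z) (e' : m' ≫ z' = z)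
    (s : Secs (pullback.snd z' g) F) : resT g m e s = resT g m' e' s := by
  subst h; rfl

/-- Surjective quasi-compact universally generalizing morphisms with connected geometric fibres give bijections. -/
theorem resT_bijective (a : Z ⟶ Z') (e : a ≫ z' = z) (hgen : UGen a) [QuasiCompact a] [Surjective a]
    (hc : HasConnectedFibres a) : Function.Bijective (fun s : Secs (pullback.snd z' g) F => resT g a e s) := by
  have hP := isPullback_bmap g a e
  refine res_bijective (fun W w hw => ?_) (fun Ω _ _ s => ?_) (bmap_snd g a e)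
  · have hg₁ : UGen (bmap g a e) := hgen.of_isPullback hP.flip
    haveI : QuasiCompact (bmap g a e) := MorphismProperty.of_isPullback hP.flip ‹QuasiCompact a›
    haveI : Surjective (bmap g a e) := MorphismProperty.of_isPullback hP.flip ‹Surjective a›
    have hg₂ : UGen (pullback.snd (bmap g a e) w) := hg₁.of_isPullback (IsPullback.of_hasPullback _ w)
    haveI : QuasiCompact (pullback.snd (bmap g a e) w) := MorphismProperty.pullback_snd _ _ ‹_›
    haveI : Surjective (pullback.snd (bmap g a e) w) := MorphismProperty.pullback_snd _ _ ‹_›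
    exact hg₂.isQuotientMap
  · haveI := hc Ω (s ≫ pullback.fst z' g)
    have sq : IsPullback (pullback.fst (bmap g a e) s ≫ pullback.fst z g) (pullback.snd (bmap g a e) s)
        a (s ≫ pullback.fst z' g) :=
      (IsPullback.of_hasPullback (bmap g a e) s).paste_horiz hP.flip
    exact sq.isoPullback.inv.homeomorph.surjective.connectedSpace sq.isoPullback.inv.continuous

theorem resT_injective (a : Z ⟶ Z') (e : a ≫ z' = z) [Surjective a] :
    Function.Injective (fun s : Secs (pullback.snd z' g) F => resT g a e s) := by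
  haveI : Surjective (bmap g a e) := MorphismProperty.of_isPullback (isPullback_bmap g a e).flip ‹Surjective a›
  exact res_injective (bmap_snd g a e)

namespace ProNbhd

variable {Ω : Type u} [Field Ω] {ξ : Spec (CommRingCat.of Ω) ⟶ S} (N : ProNbhd ξ)

theorem isPullback_q (i : N.I) :
    IsPullback (bmap g (N.c.π.app i) (N.hbc i)) (pullback.fst N.bc g) (pullback.fst (N.b i) g) (N.c.π.app i) :=
  isPullback_bmap g _ _

section

variable [QuasiCompact g] [QuasiSeparated g]

/-- Relative sections over the strict localization come from a neighbourhood. -/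
theorem exists_stage (σ : Secs (pullback.snd N.bc g) F) :
    ∃ (i : N.I) (s : Secs (pullback.snd (N.b i) g) F), resT g (N.c.π.app i) (N.hbc i) s = σ := by
  obtain ⟨i₀⟩ := IsCofiltered.nonempty (C := N.I)
  haveI := N.affine
  haveI : ∀ (i j : N.I) (f : i ⟶ j), IsAffineHom (N.D.map f) := fun _ _ _ => isAffineHom_of_isAffine _
  let a : pullback (N.b i₀) g ⟶ N.D.obj i₀ := pullback.fst (N.b i₀) g
  haveI : QuasiCompact a := MorphismProperty.pullback_fst _ _ ‹QuasiCompact g›
  haveI : QuasiSeparated a := MorphismProperty.pullback_fst _ _ ‹QuasiSeparated g›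
  haveI : CompactSpace ↥(pullback (N.b i₀) g) := QuasiCompact.compactSpace_of_compactSpace a
  haveI : QuasiSeparatedSpace ↥(pullback (N.b i₀) g) := quasiSeparatedSpace_of_quasiSeparated a
  haveI : ∀ {j k : Over i₀} (φ : j ⟶ k), IsAffineHom ((LimDesc.diag N.D i₀ a).map φ) :=
    fun φ => LimDesc.isAffineHom_map N.D i₀ a φ
  haveI : ∀ j : Over i₀, CompactSpace ↥((LimDesc.diag N.D i₀ a).obj j) :=
    fun j => LimDesc.compactSpace_obj N.D i₀ a j
  haveI : ∀ j : Over i₀, QuasiSeparatedSpace ↥((LimDesc.diag N.D i₀ a).obj j) :=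
    fun j => LimDesc.quasiSeparatedSpace_obj N.D i₀ a j
  obtain ⟨j, s, hs⟩ := GrothLib.EtSec.exists_stage (LimDesc.isLimitCone N.D i₀ a (N.isPullback_q g i₀) N.hc)
    (b := fun j => pullback.fst a (N.D.map j.hom) ≫ pullback.snd (N.b i₀) g)
    (fun φ => LimDesc.map_fst_assoc N.D i₀ a φ _)
    (bc := pullback.snd N.bc g)
    (fun j => (LimDesc.π_fst_assoc N.D i₀ a (N.isPullback_q g i₀) j _).trans (bmap_snd g _ _)) σ
  let κ : pullback (N.b j.left) g ⟶ pullback a (N.D.map j.hom) :=
    pullback.lift (bmap g (N.D.map j.hom) (N.hb j.hom)) (pullback.fst _ _) (bmap_fst g _ _)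
  refine ⟨j.left, s.res κ ((pullback.lift_fst_assoc _ _ _ _).trans (bmap_snd g _ _)), ?_⟩
  rw [← hs]
  refine (Secs.res_comp _ _ _ _ s).trans (Secs.res_congr ?_ _ _ s)
  refine pullback.hom_ext ?_ ?_
  · refine (Category.assoc _ _ _).trans ((congrArg (_ ≫ ·) (pullback.lift_fst _ _ _)).trans ?_)
    refine Eq.trans ?_ (LimDesc.π_fst N.D i₀ a (N.isPullback_q g i₀) j).symm
    rw [bmap_comp]
    simp only [Cone.w]
  · refine (Category.assoc _ _ _).trans ((congrArg (_ ≫ ·) (pullback.lift_snd _ _ _)).trans ?_)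
    exact (bmap_fst g _ _).trans (LimDesc.π_snd N.D i₀ a (N.isPullback_q g i₀) j).symm

end

/-- Relative sections agreeing on the limit agree on a stage. -/
theorem exists_stage_eq_aux {R : Scheme.{u}} {B : ∀ i, N.D.obj i ⟶ R} {Bc : N.c.pt ⟶ R} {gR : T ⟶ R} [QuasiCompact gR]
    (hB : ∀ {i j} (f : i ⟶ j), N.D.map f ≫ B j = B i) (hBc : ∀ i, N.c.π.app i ≫ B i = Bc)
    {i : N.I} (s s' : Secs (pullback.snd (B i) gR) F)
    (h : resT gR (N.c.π.app i) (hBc i) s = resT gR (N.c.π.app i) (hBc i) s') :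
    ∃ (j : N.I) (φ : j ⟶ i), resT gR (N.D.map φ) (hB φ) s = resT gR (N.D.map φ) (hB φ) s' := by
  haveI := N.affine
  haveI : ∀ (i j : N.I) (f : i ⟶ j), IsAffineHom (N.D.map f) := fun _ _ _ => isAffineHom_of_isAffine _
  let a : pullback (B i) gR ⟶ N.D.obj i := pullback.fst (B i) gR
  haveI : QuasiCompact a := MorphismProperty.pullback_fst _ _ ‹QuasiCompact gR›
  haveI : CompactSpace ↥(pullback (B i) gR) := QuasiCompact.compactSpace_of_compactSpace a
  haveI : ∀ {j k : Over i} (φ : j ⟶ k), IsAffineHom ((LimDesc.diag N.D i a).map φ) :=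
    fun φ => LimDesc.isAffineHom_map N.D i a φ
  haveI : ∀ j : Over i, CompactSpace ↥((LimDesc.diag N.D i a).obj j) :=
    fun j => LimDesc.compactSpace_obj N.D i a j
  let top : Over i := Over.mk (𝟙 i)
  obtain ⟨j, φ, hφ⟩ := GrothLib.EtSec.exists_res_eq (LimDesc.isLimitCone N.D i a (isPullback_bmap gR (N.c.π.app i) (hBc i)) N.hc)
    (b := fun j => pullback.fst a (N.D.map j.hom) ≫ pullback.snd (B i) gR)
    (fun φ => LimDesc.map_fst_assoc N.D i a φ _)
    (bc := pullback.snd Bc gR)
    (fun j => (LimDesc.π_fst_assoc N.D i a (isPullback_bmap gR (N.c.π.app i) (hBc i)) j _).trans (bmap_snd gR _ _))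
    (i := top) (s.res (pullback.fst a (N.D.map top.hom)) rfl) (s'.res (pullback.fst a (N.D.map top.hom)) rfl)
    ((Secs.res_comp _ _ _ _ s).trans ((Secs.res_congr (LimDesc.π_fst N.D i a (isPullback_bmap gR (N.c.π.app i) (hBc i)) top) _ _ s).trans
      (h.trans ((Secs.res_congr (LimDesc.π_fst N.D i a (isPullback_bmap gR (N.c.π.app i) (hBc i)) top).symm _ _ s').trans
        (Secs.res_comp _ _ _ _ s').symm))))
  let κ : pullback (B j.left) gR ⟶ pullback a (N.D.map j.hom) :=
    pullback.lift (bmap gR (N.D.map j.hom) (hB j.hom)) (pullback.fst _ _) (bmap_fst gR _ _)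
  have key : ∀ t : Secs (pullback.snd (B i) gR) F, resT gR (N.D.map j.hom) (hB j.hom) t =
      ((t.res (pullback.fst a (N.D.map top.hom)) rfl).res ((LimDesc.diag N.D i a).map φ)
        (LimDesc.map_fst_assoc N.D i a φ _)).res κ ((pullback.lift_fst_assoc _ _ _ _).trans (bmap_snd gR _ _)) := by
    intro t
    refine Eq.trans ?_ ((congrArg (fun r => Secs.res κ ((pullback.lift_fst_assoc _ _ _ _).trans (bmap_snd gR _ _)) r)
      (Secs.res_comp (pullback.fst a (N.D.map top.hom)) rfl ((LimDesc.diag N.D i a).map φ)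
        (LimDesc.map_fst_assoc N.D i a φ _) t)).trans (Secs.res_comp _ _ _ _ t)).symm
    refine Secs.res_congr ?_ _ _ t
    exact ((congrArg (κ ≫ ·) (LimDesc.map_fst N.D i a φ)).trans (pullback.lift_fst _ _ _)).symm
  refine ⟨j.left, j.hom, ?_⟩
  rw [key, key]
  exact congrArg (fun t => Secs.res κ _ t) hφ

/-- Relative sections agreeing on the strict localization agree on a neighbourhood. -/
theorem exists_stage_eq [QuasiCompact g] {i : N.I} (s s' : Secs (pullback.snd (N.b i) g) F)
    (h : resT g (N.c.π.app i) (N.hbc i) s = resT g (N.c.π.app i) (N.hbc i) s') :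
    ∃ (j : N.I) (φ : j ⟶ i), resT g (N.D.map φ) (N.hb φ) s = resT g (N.D.map φ) (N.hb φ) s' :=
  N.exists_stage_eq_aux N.hb N.hbc s s' h

/-- Relative sections over a further base agreeing on the strict localization agree on a neighbourhood. -/
theorem exists_stage_eq_comp {R : Scheme.{u}} (f : S ⟶ R) (gR : T ⟶ R) [QuasiCompact gR] {i : N.I}
    (s s' : Secs (pullback.snd (N.b i ≫ f) gR) F)
    (h : resT gR (N.c.π.app i) (show N.c.π.app i ≫ N.b i ≫ f = N.bc ≫ f by rw [← Category.assoc, N.hbc]) s =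
      resT gR (N.c.π.app i) (show N.c.π.app i ≫ N.b i ≫ f = N.bc ≫ f by rw [← Category.assoc, N.hbc]) s') :
    ∃ (j : N.I) (φ : j ⟶ i),
      resT gR (N.D.map φ) (show N.D.map φ ≫ N.b i ≫ f = N.b j ≫ f by rw [← Category.assoc, N.hb]) s =
        resT gR (N.D.map φ) (show N.D.map φ ≫ N.b i ≫ f = N.b j ≫ f by rw [← Category.assoc, N.hb]) s' :=
  N.exists_stage_eq_aux (B := fun k => N.b k ≫ f)
    (fun {k l} φ => show N.D.map φ ≫ N.b l ≫ f = N.b k ≫ f by rw [← Category.assoc, N.hb])
    (fun k => show N.c.π.app k ≫ N.b k ≫ f = N.bc ≫ f by rw [← Category.assoc, N.hbc]) s s' h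

end ProNbhd

end GrothLib.EtSec
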