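import Groth.Agent.Lib.EtSec.Stages
import Mathlib.AlgebraicGeometry.Sites.Etale

/-!
# Base change through strict localizations, in terms of relative sections
-/

universe u

open CategoryTheory CategoryTheory.Limits AlgebraicGeometry Opposite

set_option backward.isDefEq.respectTransparency.types false

noncomputable section

namespace GrothLib.EtSec

variable {X S T : Scheme.{u}} (g : T ⟶ S) (f : X ⟶ S) {F : EtDesc.Sh T}

variable {Ω : Type u} [Field Ω] {ξ : Spec (CommRingCat.of Ω) ⟶ X}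
  (NX : ProNbhd ξ) (NS : ProNbhd (ξ ≫ f)) (a : NX.c.pt ⟶ NS.c.pt)

/-- The data attached to a geometric point used in the base change argument. -/
structure LocData : Prop where
  comm : a ≫ NS.bc = NX.bc ≫ f
  point : NX.pt ≫ a = NS.pt
  gen : UGen a
  surjective : Surjective a
  connected : HasConnectedFibres a

variable {g f NX NS a}

theorem LocData.key_inj [QuasiCompact g] (d : LocData f NX NS a) {W : S.Etale}
    (l : Spec (CommRingCat.of Ω) ⟶ W.left) (hl : l ≫ W.hom = ξ ≫ f) (s s' : Secs (pullback.snd W.hom g) F)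
    {U : X.Etale} (q : Spec (CommRingCat.of Ω) ⟶ U.left) (hq : q ≫ U.hom = ξ) (m m' : U.left ⟶ W.left)
    (hm : m ≫ W.hom = U.hom ≫ f) (hm' : m' ≫ W.hom = U.hom ≫ f) (hqm : q ≫ m = l) (hqm' : q ≫ m' = l)
    (h : resT g m hm s = resT g m' hm' s') :
    ∃ (W' : S.Etale) (r : W' ⟶ W) (l' : Spec (CommRingCat.of Ω) ⟶ W'.left),
      l' ≫ W'.hom = ξ ≫ f ∧ l' ≫ r.left = l ∧
        resT g r.left (MorphismProperty.Over.w r) s = resT g r.left (MorphismProperty.Over.w r) s' := by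
  let wh : W.left ⟶ S := W.hom
  haveI : Etale wh := W.prop
  obtain ⟨i, v, hv, hvp⟩ := NX.initial U.left U.hom U.prop q hq
  obtain ⟨j, n, hn, hnp⟩ := NS.initial W.left W.hom W.prop l hl
  let w₀ : NX.c.pt ⟶ U.left := NX.c.π.app i ≫ v
  have hw₀ : w₀ ≫ U.hom = NX.bc := by rw [Category.assoc, hv, NX.hbc]
  let ν : NS.c.pt ⟶ W.left := NS.c.π.app j ≫ n
  have hν : ν ≫ W.hom = NS.bc := by rw [Category.assoc, hn, NS.hbc]
  have hw₀f : w₀ ≫ U.hom ≫ f = NX.bc ≫ f := by rw [← Category.assoc, hw₀]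
  have key : ∀ (k : U.left ⟶ W.left), k ≫ W.hom = U.hom ≫ f → q ≫ k = l → w₀ ≫ k = a ≫ ν := by
    intro k hk hkq
    refine NX.ext wh _ _ ?_ ?_
    · rw [Category.assoc, hk, hw₀f, Category.assoc a ν wh, hν, d.comm]
    · rw [← Category.assoc, hvp, hkq, ← Category.assoc, d.point]
      exact hnp.symm
  have hL : resT g a d.comm (resT g ν hν s) = resT g a d.comm (resT g ν hν s') := by
    have h' := congrArg (fun t => resT g w₀ hw₀f t) h
    simp only [resT_resT] at h' ⊢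
    exact ((resT_congr g (key m hm hqm).symm _ _ s).trans h').trans (resT_congr g (key m' hm' hqm') _ _ s')
  haveI := d.surjective
  have hν' := resT_injective g a d.comm hL
  obtain ⟨j', φ, hφ⟩ := NS.exists_stage_eq g (i := j) (resT g n hn s) (resT g n hn s')
    ((resT_resT g _ _ n hn s).trans (hν'.trans (resT_resT g _ _ n hn s').symm))
  haveI := NS.etale j'
  let W' : S.Etale := Scheme.Etale.mk (NS.b j')
  let r : W' ⟶ W := MorphismProperty.Over.homMk (NS.D.map φ ≫ n)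
    ((Category.assoc _ _ _).trans ((congrArg (NS.D.map φ ≫ ·) hn).trans (NS.hb φ)))
  refine ⟨W', r, NS.pt ≫ NS.c.π.app j', ?_, ?_, ?_⟩
  · exact (Category.assoc _ _ _).trans ((congrArg (NS.pt ≫ ·) (NS.hbc j')).trans NS.hpt)
  · refine Eq.trans ?_ hnp
    exact (Category.assoc _ _ _).trans (congrArg (NS.pt ≫ ·)
      ((Category.assoc _ _ _).symm.trans (congrArg (· ≫ n) (NS.c.w φ))))
  · exact (resT_resT g _ _ n hn s).symm.trans (hφ.trans (resT_resT g _ _ n hn s'))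

theorem LocData.key_surj [QuasiCompact g] [QuasiSeparated g] (d : LocData f NX NS a) {U : X.Etale}
    (q : Spec (CommRingCat.of Ω) ⟶ U.left) (hq : q ≫ U.hom = ξ) (σ : Secs (pullback.snd (U.hom ≫ f) g) F) :
    ∃ (W : S.Etale) (l : Spec (CommRingCat.of Ω) ⟶ W.left) (_ : l ≫ W.hom = ξ ≫ f)
      (s : Secs (pullback.snd W.hom g) F) (U' : X.Etale) (r : U' ⟶ U) (m : U'.left ⟶ W.left)
      (hm : m ≫ W.hom = U'.hom ≫ f) (q' : Spec (CommRingCat.of Ω) ⟶ U'.left),
      q' ≫ U'.hom = ξ ∧ q' ≫ r.left = q ∧ q' ≫ m = l ∧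
        resT g r.left (show r.left ≫ U.hom ≫ f = U'.hom ≫ f from
          (Category.assoc _ _ _).symm.trans (congrArg (· ≫ f) (MorphismProperty.Over.w r))) σ = resT g m hm s := by
  obtain ⟨i, v, hv, hvp⟩ := NX.initial U.left U.hom U.prop q hq
  let w₀ : NX.c.pt ⟶ U.left := NX.c.π.app i ≫ v
  have hw₀ : w₀ ≫ U.hom = NX.bc := by rw [Category.assoc, hv, NX.hbc]
  have hw₀f : w₀ ≫ U.hom ≫ f = NX.bc ≫ f := by rw [← Category.assoc, hw₀]
  haveI := d.surjective
  haveI := NX.affine_pt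
  haveI := NS.affine_pt
  obtain ⟨τ, hτ⟩ := (resT_bijective g a d.comm d.gen d.connected).2 (resT g w₀ hw₀f σ)
  obtain ⟨j, s, hs⟩ := NS.exists_stage g τ
  haveI := NS.etale j
  let W : S.Etale := Scheme.Etale.mk (NS.b j)
  have hl : (NS.pt ≫ NS.c.π.app j) ≫ W.hom = ξ ≫ f :=
    (Category.assoc _ _ _).trans ((congrArg (NS.pt ≫ ·) (NS.hbc j)).trans NS.hpt)
  obtain ⟨i', v', hv', hvp'⟩ := NX.initial (pullback (NS.b j) f) (pullback.snd _ _) inferInstance
    (pullback.lift (NS.pt ≫ NS.c.π.app j) ξ hl) (pullback.lift_snd _ _ _)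
  let m₁ : NX.D.obj i' ⟶ NS.D.obj j := v' ≫ pullback.fst (NS.b j) f
  have hm₁ : m₁ ≫ NS.b j = NX.b i' ≫ f := by
    rw [Category.assoc, pullback.condition, ← Category.assoc, hv']
  obtain ⟨k, e₁, e₂, -⟩ := IsCofilteredOrEmpty.cone_objs i i'
  let kb : NX.D.obj k ⟶ S := NX.b k ≫ f
  have hk₁ : (NX.D.map e₁ ≫ v) ≫ U.hom ≫ f = NX.b k ≫ f := by
    rw [← Category.assoc, Category.assoc _ v, hv, NX.hb]
  have hk₂ : (NX.D.map e₂ ≫ m₁) ≫ NS.b j = NX.b k ≫ f := by
    rw [Category.assoc, hm₁, ← Category.assoc, NX.hb]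
  have hlim : NX.c.π.app k ≫ NX.D.map e₂ ≫ m₁ = a ≫ NS.c.π.app j := by
    rw [← Category.assoc, NX.c.w]
    refine NX.ext (NS.b j) _ _ ?_ ?_
    · rw [Category.assoc, hm₁, ← Category.assoc, NX.hbc, Category.assoc, NS.hbc, d.comm]
    · refine Eq.trans ?_ ((congrArg (· ≫ NS.c.π.app j) d.point.symm).trans (Category.assoc _ _ _))
      exact ((congrArg (NX.pt ≫ ·) (Category.assoc _ _ _).symm).trans (Category.assoc _ _ _).symm).trans
        ((congrArg (· ≫ pullback.fst (NS.b j) f) hvp').trans (pullback.lift_fst _ _ _))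
  obtain ⟨k', φ, hφ⟩ := NX.exists_stage_eq_comp f g (i := k) (resT g (NX.D.map e₁ ≫ v) hk₁ σ)
    (resT g (NX.D.map e₂ ≫ m₁) hk₂ s) (by
      rw [resT_resT, resT_resT]
      refine (resT_congr g (show NX.c.π.app k ≫ NX.D.map e₁ ≫ v = w₀ by
        rw [← Category.assoc, NX.c.w]) _ hw₀f σ).trans (hτ.symm.trans ?_)
      exact ((congrArg (resT g a d.comm) hs.symm).trans (resT_resT g a d.comm _ (NS.hbc j) s)).trans
        (resT_congr g hlim.symm _ _ s))
  haveI := NX.etale k'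
  let U' : X.Etale := Scheme.Etale.mk (NX.b k')
  let r : U' ⟶ U := MorphismProperty.Over.homMk (NX.D.map φ ≫ NX.D.map e₁ ≫ v)
    ((Category.assoc _ _ _).trans ((congrArg (NX.D.map φ ≫ ·)
      ((Category.assoc _ _ _).trans ((congrArg (NX.D.map e₁ ≫ ·) hv).trans (NX.hb e₁)))).trans (NX.hb φ)))
  refine ⟨W, NS.pt ≫ NS.c.π.app j, hl, s, U', r, NX.D.map φ ≫ NX.D.map e₂ ≫ m₁, ?_,
    NX.pt ≫ NX.c.π.app k', ?_, ?_, ?_, ?_⟩
  · show (NX.D.map φ ≫ NX.D.map e₂ ≫ m₁) ≫ NS.b j = NX.b k' ≫ f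
    rw [Category.assoc, hk₂, ← Category.assoc, NX.hb]
  · exact (Category.assoc _ _ _).trans ((congrArg (NX.pt ≫ ·) (NX.hbc k')).trans NX.hpt)
  · show (NX.pt ≫ NX.c.π.app k') ≫ NX.D.map φ ≫ NX.D.map e₁ ≫ v = q
    rw [← hvp, Category.assoc, ← Category.assoc (NX.c.π.app k'), NX.c.w, ← Category.assoc (NX.c.π.app k), NX.c.w]
  · refine Eq.trans ?_ ((congrArg (NX.pt ≫ ·) hlim).trans ((Category.assoc _ _ _).symm.trans
      (congrArg (· ≫ NS.c.π.app j) d.point)))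
    exact (Category.assoc _ _ _).trans (congrArg (NX.pt ≫ ·)
      ((Category.assoc _ _ _).symm.trans (congrArg (· ≫ NX.D.map e₂ ≫ m₁) (NX.c.w φ))))
  · exact (resT_resT g _ _ _ _ σ).symm.trans (hφ.trans (resT_resT g _ _ _ _ s))

/-- What the stalk computation of the base change map uses: local uniqueness and local existence. -/
structure KeyData (g : T ⟶ S) (f : X ⟶ S) (F : EtDesc.Sh T) (ξ : Spec (CommRingCat.of Ω) ⟶ X) : Prop where
  inj : ∀ {W : S.Etale} (l : Spec (CommRingCat.of Ω) ⟶ W.left), l ≫ W.hom = ξ ≫ f →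
    ∀ (s s' : Secs (pullback.snd W.hom g) F) {U : X.Etale} (q : Spec (CommRingCat.of Ω) ⟶ U.left),
      q ≫ U.hom = ξ → ∀ (m m' : U.left ⟶ W.left) (hm : m ≫ W.hom = U.hom ≫ f) (hm' : m' ≫ W.hom = U.hom ≫ f),
        q ≫ m = l → q ≫ m' = l → resT g m hm s = resT g m' hm' s' →
    ∃ (W' : S.Etale) (r : W' ⟶ W) (l' : Spec (CommRingCat.of Ω) ⟶ W'.left),
      l' ≫ W'.hom = ξ ≫ f ∧ l' ≫ r.left = l ∧
        resT g r.left (MorphismProperty.Over.w r) s = resT g r.left (MorphismProperty.Over.w r) s'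
  surj : ∀ {U : X.Etale} (q : Spec (CommRingCat.of Ω) ⟶ U.left), q ≫ U.hom = ξ →
    ∀ σ : Secs (pullback.snd (U.hom ≫ f) g) F,
    ∃ (W : S.Etale) (l : Spec (CommRingCat.of Ω) ⟶ W.left) (_ : l ≫ W.hom = ξ ≫ f)
      (s : Secs (pullback.snd W.hom g) F) (U' : X.Etale) (r : U' ⟶ U) (m : U'.left ⟶ W.left)
      (hm : m ≫ W.hom = U'.hom ≫ f) (q' : Spec (CommRingCat.of Ω) ⟶ U'.left),
      q' ≫ U'.hom = ξ ∧ q' ≫ r.left = q ∧ q' ≫ m = l ∧
        resT g r.left (show r.left ≫ U.hom ≫ f = U'.hom ≫ f from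
          (Category.assoc _ _ _).symm.trans (congrArg (· ≫ f) (MorphismProperty.Over.w r))) σ = resT g m hm s

theorem LocData.keyData [QuasiCompact g] [QuasiSeparated g] (d : LocData f NX NS a) : KeyData g f F ξ where
  inj l hl s s' _ q hq m m' hm hm' hqm hqm' h := d.key_inj l hl s s' q hq m m' hm hm' hqm hqm' h
  surj q hq σ := d.key_surj q hq σ

end GrothLib.EtSec
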